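import Groth.Agent.LineDesc.DisjointMod

/-!
# The fppf relative Picard functor of a map with a section
-/

set_option autoImplicit false
set_option backward.isDefEq.respectTransparency false
set_option backward.isDefEq.respectTransparency.types false
set_option linter.style.haveILetI false
set_option linter.unusedSectionVars false
set_option maxHeartbeats 1000000

universe u

open CategoryTheory CategoryTheory.Limits AlgebraicGeometry TopologicalSpace

noncomputable section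

namespace Groth.Agent.LineDesc.Rig

open ThetaLib
open scoped Groth.Agent.H23.PicMul

variable {X S : Scheme.{u}} {f : X ⟶ S}

theorem isPullback_XTmap {T T' : Over S} (g : T' ⟶ T) :
    IsPullback (PicF.XTmap f g) (pullback.snd f T'.hom) (pullback.snd f T.hom) g.left := by
  refine IsPullback.of_right ?_ (XTmap_snd g) (IsPullback.of_hasPullback f T.hom)
  rw [XTmap_fst, Over.w g]
  exact IsPullback.of_hasPullback f T'.hom

instance {T T' : Over S} (g : T' ⟶ T) [IsOpenImmersion g.left] : IsOpenImmersion (PicF.XTmap f g) :=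
  MorphismProperty.of_isPullback (P := @IsOpenImmersion) (isPullback_XTmap g).flip inferInstance

theorem mem_range_XTmap {T T' : Over S} (g : T' ⟶ T) {p : ↥(PicF.XT f T)}
    (h : pullback.snd f T.hom p ∈ Set.range g.left) : p ∈ Set.range (PicF.XTmap f g) := by
  obtain ⟨y, hy⟩ := h
  obtain ⟨z, hz, -⟩ := Scheme.Pullback.exists_preimage_pullback (f := pullback.snd f T.hom) (g := g.left) p y hy.symm
  refine ⟨(isPullback_XTmap g).isoPullback.inv z, ?_⟩
  rw [← Scheme.Hom.comp_apply, IsPullback.isoPullback_inv_fst]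
  exact hz

theorem pullCl_XTmap_comp {T T' T'' : Over S} (g : T'' ⟶ T') (g' : T' ⟶ T) (c : PicF.Cl (PicF.XT f T)) :
    PicF.pullCl (PicF.XTmap f g) (PicF.pullCl (PicF.XTmap f g') c) = PicF.pullCl (PicF.XTmap f (g ≫ g')) c := by
  rw [PicClLib.pullCl_comp, XTmap_comp]

/-- An fppf covering has a small subfamily with flat, surjective coproduct. -/
theorem exists_small_cover {T : Scheme.{u}} {R : Presieve T} (hR : R ∈ Scheme.fppfPrecoverage T) :
    ∃ (Ui : T → Scheme.{u}) (ui : ∀ t, Ui t ⟶ T), (∀ t, R (ui t)) ∧ Flat (Sigma.desc ui) ∧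
      LocallyOfFinitePresentation (Sigma.desc ui) ∧ Surjective (Sigma.desc ui) := by
  obtain ⟨hs, hp⟩ := hR
  have hs' : ∀ t : T, ∃ (U : Scheme.{u}) (u : U ⟶ T), R u ∧ t ∈ Set.range u := fun t => by
    obtain ⟨Y, g, hg, y, hy⟩ := hs t
    obtain ⟨hu⟩ := hg
    exact ⟨_, _, hu, y, hy⟩
  choose Ui ui hui hmem using hs'
  haveI : ∀ t, Flat (ui t) := fun t => (hp (hui t)).1
  haveI : ∀ t, LocallyOfFinitePresentation (ui t) := fun t => (hp (hui t)).2
  refine ⟨Ui, ui, hui, IsZariskiLocalAtSource.sigmaDesc (P := @Flat) fun t => ‹∀ t, Flat (ui t)› t,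
    IsZariskiLocalAtSource.sigmaDesc (P := @LocallyOfFinitePresentation)
      fun t => ‹∀ t, LocallyOfFinitePresentation (ui t)› t, ⟨fun t => ?_⟩⟩
  obtain ⟨y, hy⟩ := hmem t
  refine ⟨Sigma.ι Ui t y, ?_⟩
  rw [← Scheme.Hom.comp_apply, colimit.ι_desc]
  exact hy

section Pieces

variable {T : Over S} {Ui : T.left → Scheme.{u}} (ui : ∀ t, Ui t ⟶ T.left)

/-- The inclusion of a piece. -/
abbrev pieceι (t : T.left) : AbDual.ovr T (ui t) ⟶ U1 (Sigma.desc ui) :=
  Over.homMk (Sigma.ι Ui t) (by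
    show Sigma.ι Ui t ≫ Sigma.desc ui ≫ T.hom = ui t ≫ T.hom
    rw [colimit.ι_desc_assoc]; rfl)

instance (t : T.left) : IsOpenImmersion (pieceι ui t).left := inferInstanceAs (IsOpenImmersion (Sigma.ι Ui t))

theorem pieceι_ovrHom (t : T.left) :
    pieceι ui t ≫ AbDual.ovrHom T (Sigma.desc ui) = AbDual.ovrHom T (ui t) :=
  Over.OverMorphism.ext (colimit.ι_desc _ _)

/-- The inclusion of a double piece. -/
abbrev piece₂ (q : T.left × T.left) :
    AbDual.ovr (AbDual.ovr T (ui q.1)) (pullback.fst (ui q.1) (ui q.2)) ⟶ U2 (Sigma.desc ui) :=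
  Over.homMk (pullback.map (ui q.1) (ui q.2) (Sigma.desc ui) (Sigma.desc ui) (Sigma.ι Ui q.1) (Sigma.ι Ui q.2) (𝟙 _)
    (by rw [Category.comp_id, colimit.ι_desc]; rfl) (by rw [Category.comp_id, colimit.ι_desc]; rfl)) (by
    show pullback.map _ _ _ _ _ _ _ _ _ ≫ pullback.fst _ _ ≫ Sigma.desc ui ≫ T.hom =
      pullback.fst (ui q.1) (ui q.2) ≫ ui q.1 ≫ T.hom
    rw [pullback.lift_fst_assoc, Category.assoc, colimit.ι_desc_assoc]; rfl)

theorem piece₂_p1 (q : T.left × T.left) :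
    piece₂ ui q ≫ p1 (Sigma.desc ui) =
      AbDual.ovrHom (AbDual.ovr T (ui q.1)) (pullback.fst (ui q.1) (ui q.2)) ≫ pieceι ui q.1 :=
  Over.OverMorphism.ext (pullback.lift_fst _ _ _)

/-- The second projection of a double piece. -/
abbrev piece₂snd (q : T.left × T.left) :
    AbDual.ovr (AbDual.ovr T (ui q.1)) (pullback.fst (ui q.1) (ui q.2)) ⟶ AbDual.ovr T (ui q.2) :=
  Over.homMk (pullback.snd (ui q.1) (ui q.2)) (pullback.condition_assoc T.hom).symm

theorem piece₂_p2 (q : T.left × T.left) : piece₂ ui q ≫ p2 (Sigma.desc ui) = piece₂snd ui q ≫ pieceι ui q.2 :=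
  Over.OverMorphism.ext (pullback.lift_snd _ _ _)

theorem cover_pieces (p : ↥(PicF.XT f (U1 (Sigma.desc ui)))) :
    ∃ t, p ∈ (PicF.XTmap f (pieceι ui t)).opensRange := by
  obtain ⟨⟨t, z⟩, hz⟩ := (sigmaMk Ui).surjective (pullback.snd f (U1 (Sigma.desc ui)).hom p)
  rw [sigmaMk_mk] at hz
  exact ⟨t, mem_range_XTmap _ ⟨z, hz⟩⟩

theorem disjoint_pieces (t t' : T.left) (h : t ≠ t') :
    Disjoint (PicF.XTmap f (pieceι ui t)).opensRange (PicF.XTmap f (pieceι ui t')).opensRange := by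
  rw [disjoint_iff_inf_le]
  rintro p ⟨⟨a, ha⟩, b, hb⟩
  have h1 := congrArg (pullback.snd f (U1 (Sigma.desc ui)).hom) (ha.trans hb.symm)
  rw [← Scheme.Hom.comp_apply, ← Scheme.Hom.comp_apply, XTmap_snd, XTmap_snd] at h1
  exact ((disjoint_opensRange_sigmaι Ui t t' h).le_bot ⟨⟨_, rfl⟩, ⟨_, h1.symm⟩⟩).elim

instance (q : T.left × T.left) : IsOpenImmersion (piece₂ ui q).left :=
  MorphismProperty.pullback_map (P := @IsOpenImmersion) (inferInstanceAs (IsOpenImmersion (Sigma.ι Ui q.1)))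
    (inferInstanceAs (IsOpenImmersion (Sigma.ι Ui q.2))) (by rw [colimit.ι_desc]; rfl) (by rw [colimit.ι_desc]; rfl)

theorem cover_pieces₂ (p : ↥(PicF.XT f (U2 (Sigma.desc ui)))) :
    ∃ q, p ∈ (PicF.XTmap f (piece₂ ui q)).opensRange := by
  let z := pullback.snd f (U2 (Sigma.desc ui)).hom p
  obtain ⟨⟨t, a⟩, ha⟩ := (sigmaMk Ui).surjective (pullback.fst (Sigma.desc ui) (Sigma.desc ui) z)
  obtain ⟨⟨t', b⟩, hb⟩ := (sigmaMk Ui).surjective (pullback.snd (Sigma.desc ui) (Sigma.desc ui) z)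
  rw [sigmaMk_mk] at ha hb
  refine ⟨(t, t'), mem_range_XTmap _ ?_⟩
  show z ∈ Set.range (piece₂ ui (t, t')).left
  simp only [piece₂, Over.homMk_left]
  erw [Scheme.Pullback.range_map]
  exact ⟨⟨a, ha⟩, ⟨b, hb⟩⟩

theorem disjoint_pieces₂ (q q' : T.left × T.left) (h : q ≠ q') :
    Disjoint (PicF.XTmap f (piece₂ ui q)).opensRange (PicF.XTmap f (piece₂ ui q')).opensRange := by
  rw [disjoint_iff_inf_le]
  rintro p ⟨⟨a, ha⟩, b, hb⟩
  have h1 := congrArg (pullback.snd f (U2 (Sigma.desc ui)).hom) (ha.trans hb.symm)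
  rw [← Scheme.Hom.comp_apply, ← Scheme.Hom.comp_apply, XTmap_snd, XTmap_snd] at h1
  by_cases h₁ : q.1 = q'.1
  · have h₂ : q.2 ≠ q'.2 := fun e => h (Prod.ext h₁ e)
    have h3 := congrArg (pullback.snd (Sigma.desc ui) (Sigma.desc ui)) h1
    have e : ∀ (r : T.left × T.left),
        (pullback.snd f (AbDual.ovr (AbDual.ovr T (ui r.1)) (pullback.fst (ui r.1) (ui r.2))).hom ≫
          (piece₂ ui r).left) ≫ pullback.snd (Sigma.desc ui) (Sigma.desc ui) =
          (pullback.snd f (AbDual.ovr (AbDual.ovr T (ui r.1)) (pullback.fst (ui r.1) (ui r.2))).hom ≫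
            pullback.snd (ui r.1) (ui r.2)) ≫ Sigma.ι Ui r.2 := fun r => by
      rw [Category.assoc, Category.assoc]
      exact congrArg (pullback.snd f _ ≫ ·) (pullback.lift_snd _ _ _)
    exact ((disjoint_opensRange_sigmaι Ui q.2 q'.2 h₂).le_bot
      ⟨⟨_, (congrArg (fun m : _ ⟶ ∐ Ui => m a) (e q)).symm⟩,
        ⟨_, ((h3.trans (congrArg (fun m : _ ⟶ ∐ Ui => m b) (e q')))).symm⟩⟩).elim
  · have h3 := congrArg (pullback.fst (Sigma.desc ui) (Sigma.desc ui)) h1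
    have e : ∀ (r : T.left × T.left),
        (pullback.snd f (AbDual.ovr (AbDual.ovr T (ui r.1)) (pullback.fst (ui r.1) (ui r.2))).hom ≫
          (piece₂ ui r).left) ≫ pullback.fst (Sigma.desc ui) (Sigma.desc ui) =
          (pullback.snd f (AbDual.ovr (AbDual.ovr T (ui r.1)) (pullback.fst (ui r.1) (ui r.2))).hom ≫
            pullback.fst (ui r.1) (ui r.2)) ≫ Sigma.ι Ui r.1 := fun r => by
      rw [Category.assoc, Category.assoc]
      exact congrArg (pullback.snd f _ ≫ ·) (pullback.lift_fst _ _ _)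
    exact ((disjoint_opensRange_sigmaι Ui q.1 q'.1 h₁).le_bot
      ⟨⟨_, (congrArg (fun m : _ ⟶ ∐ Ui => m a) (e q)).symm⟩,
        ⟨_, ((h3.trans (congrArg (fun m : _ ⟶ ∐ Ui => m b) (e q')))).symm⟩⟩).elim

end Pieces

variable {σ : S ⟶ X} {hσ : σ ≫ f = 𝟙 S}
  (ha : ∀ (Z : Scheme.{u}) (z : Z ⟶ S), Function.Bijective (pullback.snd f z).appTop)
  {P : Over S} {φ : ∀ T : Over S, PicF.Cl (PicF.XT f T) → (T ⟶ P)}
  (hP : AbDual.IsRelPicK Scheme.fppfPrecoverage f P φ)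

theorem secT_pullCl {T T' : Over S} (g : T' ⟶ T) (c : PicF.Cl (PicF.XT f T)) :
    PicF.pullCl (PicF.secT f σ hσ T') (PicF.pullCl (PicF.XTmap f g) c) =
      PicF.pullCl g.left (PicF.pullCl (PicF.secT f σ hσ T) c) := by
  rw [PicClLib.pullCl_comp, secT_XTmap, ← PicClLib.pullCl_comp]

include ha hP in
theorem rig_injective (T : Over S) (c d : PicF.Rig f σ hσ T) (h : φ T c.1 = φ T d.1) : c = d := by
  obtain ⟨R, hR, hRe⟩ := hP.locallyInjective T c.1 d.1 c.2.1 d.2.1 h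
  obtain ⟨Ui, ui, hui, hfl, hfp, hsu⟩ := exists_small_cover hR
  haveI := hfl
  haveI := hfp
  haveI := hsu
  refine rig_unique ha (Sigma.desc ui) c d ?_
  obtain ⟨L, hL, hLi⟩ := c.2.1
  obtain ⟨M, hM, hMi⟩ := d.2.1
  rw [← hL, ← hM]
  refine cl_eq_of_disjoint (fun t => PicF.XTmap f (pieceι ui t)) (cover_pieces ui) (disjoint_pieces ui)
    (L := (Scheme.Modules.pullback (cov (Sigma.desc ui))).obj L)
    (M := (Scheme.Modules.pullback (cov (Sigma.desc ui))).obj M) fun t => ?_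
  show PicF.pullCl _ (PicF.pullCl (cov (Sigma.desc ui)) (PicF.cl L)) =
    PicF.pullCl _ (PicF.pullCl (cov (Sigma.desc ui)) (PicF.cl M))
  rw [pullCl_XTmap_comp, pullCl_XTmap_comp, pieceι_ovrHom, hL, hM]
  exact hRe (ui t) (hui t)

include hP in
theorem phi_twist (T : Over S) (c : PicF.Cl (PicF.XT f T)) (hc : PicF.IsInvertibleCl c) (m : PicF.Cl T.left)
    (hm : PicF.IsInvertibleCl m) : φ T (c * PicF.pullCl (PicF.XTproj f T) m) = φ T c := by
  choose U hU hUm using fun t => exists_open_trivial hm t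
  let 𝒰 : T.left.OpenCover := T.left.openCoverOfIsOpenCover U
    (eq_top_iff.2 fun p _ => Opens.mem_iSup.2 ⟨p, hU p⟩)
  refine Over.OverMorphism.ext (Scheme.Cover.hom_ext 𝒰 _ _ fun t => ?_)
  let g : AbDual.ovr T (U t).ι ⟶ T := AbDual.ovrHom T (U t).ι
  have hinv := H23.PicMul.isInvertibleCl_mul hc (PicClLib.isInvertibleCl_pullCl (PicF.XTproj f T) hm)
  have h1 := hP.natural T _ g _ hinv
  have h2 := hP.natural T _ g c hc
  have e : PicF.pullCl (PicF.XTmap f g) (c * PicF.pullCl (PicF.XTproj f T) m) = PicF.pullCl (PicF.XTmap f g) c := by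
    rw [H23.PicMul.pullCl_mul, PicClLib.pullCl_comp, XTmap_snd, ← PicClLib.pullCl_comp]
    show _ * PicF.pullCl _ (PicF.pullCl (U t).ι m) = _
    rw [hUm, H23.PicMul.pullCl_one, _root_.mul_one]
  rw [e] at h1
  exact congrArg CommaMorphism.left (h1.symm.trans h2)

include hP in
theorem exists_rig_phi (T : Over S) (c : PicF.Cl (PicF.XT f T)) (hc : PicF.IsInvertibleCl c) :
    ∃ d : PicF.Rig f σ hσ T, φ T d.1 = φ T c := by
  obtain ⟨M, hM, hMi⟩ := PicClLib.isInvertibleCl_pullCl (PicF.secT f σ hσ T) hc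
  obtain ⟨D, hD, e⟩ := H23.PicInv.exists_inverse hMi
  have e' := (PicGrp.cl_eq_cl_iff _ _).2 e
  rw [H23.PicMul.cl_tensor] at e'
  have hMD : PicF.cl M * PicF.cl D = 1 := e'
  have hinv := H23.PicMul.isInvertibleCl_mul hc (PicClLib.isInvertibleCl_pullCl (PicF.XTproj f T) ⟨D, rfl, hD⟩)
  refine ⟨⟨c * PicF.pullCl (PicF.XTproj f T) (PicF.cl D), hinv, ?_⟩, phi_twist hP T c hc _ ⟨D, rfl, hD⟩⟩
  show PicF.pullCl (PicF.secT f σ hσ T) (c * PicF.pullCl (PicF.XTproj f T) (PicF.cl D)) = 1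
  rw [H23.PicMul.pullCl_mul, PicClLib.pullCl_comp, secT_snd, PicClLib.pullCl_id, ← hM, hMD]

include ha hP in
theorem rig_surjective (T : Over S) (g : T ⟶ P) : ∃ c : PicF.Rig f σ hσ T, φ T c.1 = g := by
  obtain ⟨R, hR, hRe⟩ := hP.locallySurjective T g
  obtain ⟨Ui, ui, hui, hfl, hfp, hsu⟩ := exists_small_cover hR
  haveI := hfl
  haveI := hfp
  haveI := hsu
  have hpc : ∀ t : T.left, ∃ d : PicF.Rig f σ hσ (AbDual.ovr T (ui t)),
      φ _ d.1 = AbDual.ovrHom T (ui t) ≫ g := fun t => by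
    obtain ⟨c, hc, hφ⟩ := hRe (ui t) (hui t)
    obtain ⟨d, hd⟩ := exists_rig_phi (σ := σ) (hσ := hσ) hP _ c hc
    exact ⟨d, hd.trans hφ⟩
  choose d hd using hpc
  obtain ⟨M, hM, hMd⟩ := exists_invertible_of_disjoint (fun t => PicF.XTmap f (pieceι ui t)) (cover_pieces ui)
    (disjoint_pieces ui) (fun t => (d t).1) (fun t => (d t).2.1)
  have htriv : PicF.pullCl (PicF.secT f σ hσ (U1 (Sigma.desc ui))) (PicF.cl M) = 1 := by
    refine cl_eq_of_disjoint (fun t => Sigma.ι Ui t) (fun p => ?_)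
      (fun t t' h => disjoint_opensRange_sigmaι Ui t t' h)
      (L := (Scheme.Modules.pullback (PicF.secT f σ hσ (U1 (Sigma.desc ui)))).obj M)
      (M := Coh.structureModule _) fun t => ?_
    · obtain ⟨⟨t, z⟩, hz⟩ := (sigmaMk Ui).surjective p
      rw [sigmaMk_mk] at hz
      exact ⟨t, z, hz⟩
    · show PicF.pullCl (pieceι ui t).left (PicF.pullCl _ (PicF.cl M)) = _
      rw [← secT_pullCl, hMd, ← H23.PicMul.one_def, H23.PicMul.pullCl_one]
      exact (d t).2.2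
  let cV : PicF.Rig f σ hσ (U1 (Sigma.desc ui)) := ⟨PicF.cl M, ⟨M, rfl, hM⟩, htriv⟩
  have hglue : PicF.pullCl (PicF.XTmap f (p1 (Sigma.desc ui))) cV.1 =
      PicF.pullCl (PicF.XTmap f (p2 (Sigma.desc ui))) cV.1 := by
    refine cl_eq_of_disjoint (fun q => PicF.XTmap f (piece₂ ui q)) (cover_pieces₂ ui) (disjoint_pieces₂ ui)
      (L := (Scheme.Modules.pullback (PicF.XTmap f (p1 (Sigma.desc ui)))).obj M)
      (M := (Scheme.Modules.pullback (PicF.XTmap f (p2 (Sigma.desc ui)))).obj M) fun q => ?_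
    show PicF.pullCl _ (PicF.pullCl (PicF.XTmap f (p1 (Sigma.desc ui))) (PicF.cl M)) =
      PicF.pullCl _ (PicF.pullCl (PicF.XTmap f (p2 (Sigma.desc ui))) (PicF.cl M))
    rw [pullCl_XTmap_comp, pullCl_XTmap_comp, piece₂_p1, piece₂_p2, ← pullCl_XTmap_comp, ← pullCl_XTmap_comp,
      hMd, hMd]
    let g₁ := AbDual.ovrHom (AbDual.ovr T (ui q.1)) (pullback.fst (ui q.1) (ui q.2))
    let g₂ := piece₂snd ui q
    have hr : ∀ {T' T'' : Over S} (k : T'' ⟶ T') (c : PicF.Rig f σ hσ T'),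
        PicF.IsInvertibleCl (PicF.pullCl (PicF.XTmap f k) c.1) ∧
          PicF.IsTrivialCl (PicF.pullCl (PicF.secT f σ hσ T'') (PicF.pullCl (PicF.XTmap f k) c.1)) :=
      fun k c => ⟨PicClLib.isInvertibleCl_pullCl _ c.2.1, by
        rw [secT_pullCl, show PicF.pullCl (PicF.secT f σ hσ _) c.1 = 1 from c.2.2]
        exact H23.PicMul.pullCl_one _⟩
    refine congrArg Subtype.val (rig_injective ha hP _ ⟨_, hr g₁ (d q.1)⟩ ⟨_, hr g₂ (d q.2)⟩ ?_)
    show φ _ (PicF.pullCl (PicF.XTmap f g₁) (d q.1).1) = φ _ (PicF.pullCl (PicF.XTmap f g₂) (d q.2).1)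
    rw [hP.natural _ _ g₁ _ (d q.1).2.1, hP.natural _ _ g₂ _ (d q.2).2.1, hd, hd, ← Category.assoc, ← Category.assoc]
    congr 1
    exact Over.OverMorphism.ext pullback.condition
  obtain ⟨c, hc⟩ := exists_rig ha (Sigma.desc ui) cV hglue
  refine ⟨c, Over.OverMorphism.ext ?_⟩
  haveI : Epi (Sigma.desc ui) := Flat.epi_of_flat_of_surjective _
  rw [← cancel_epi (Sigma.desc ui)]
  refine Sigma.hom_ext _ _ fun t => ?_
  have h1 : pieceι ui t ≫ AbDual.ovrHom T (Sigma.desc ui) ≫ φ T c.1 =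
      pieceι ui t ≫ AbDual.ovrHom T (Sigma.desc ui) ≫ g := by
    rw [← Category.assoc, ← Category.assoc, pieceι_ovrHom, ← hd, ← hP.natural _ _ _ _ c.2.1,
      ← pieceι_ovrHom, ← pullCl_XTmap_comp]
    show φ _ (PicF.pullCl _ (PicF.pullCl (cov (Sigma.desc ui)) c.1)) = _
    rw [hc, hMd]
  exact congrArg CommaMorphism.left h1

end Groth.Agent.LineDesc.Rig
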