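import Groth.Agent.LineDesc.Local
import Groth.Agent.LineDesc.FrameHom
import Groth.Agent.ThetaLib.Commutator

/-!
# Descent of invertible modules along fppf morphisms
-/

set_option autoImplicit false
set_option backward.isDefEq.respectTransparency false
set_option backward.isDefEq.respectTransparency.types false
set_option linter.style.haveILetI false
set_option maxHeartbeats 2000000

universe u

open CategoryTheory CategoryTheory.Limits AlgebraicGeometry TopologicalSpace Pseudofunctor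

noncomputable section

namespace Groth.Agent.LineDesc

open ThetaLib Groth.Agent.AModX Groth.Agent.InvX Groth.Agent.H23

variable {X : Scheme.{u}} {P' : Pr.{u}} {w : P'.base ⟶ X}

/-- The inclusion between trivial pairs. -/
theorem exists_trivRes {O O' : X.Opens} (h : O ≤ O') :
    ∃ cP : Ptriv O.ι ⟶ Ptriv O'.ι, cP.base = X.homOfLE h ∧ IsIso (fib cP) ∧ cP ≫ trivProj O'.ι = trivProj O.ι := by
  obtain ⟨c, h1, h2, h3⟩ := exists_lift (trivProj O'.ι) (trivProj O.ι) (X.homOfLE h) (X.homOfLE_ι h)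
  exact ⟨c, h1, h3 inferInstance, h2⟩

theorem exists_QRes (P' : Pr.{u}) (w : P'.base ⟶ X) {O O' : X.Opens} (h : O ≤ O') :
    ∃ cQ : QO P' w O ⟶ QO P' w O', cQ.base = P'.base.homOfLE (w.preimage_mono h) ∧ IsIso (fib cQ) ∧
      cQ ≫ kO P' w O' = kO P' w O := by
  obtain ⟨c, h1, h2, h3⟩ := exists_lift (kO P' w O') (kO P' w O) (P'.base.homOfLE (w.preimage_mono h))
    (P'.base.homOfLE_ι _)
  exact ⟨c, h1, h3 inferInstance, h2⟩

/-- The chosen inclusion of trivial pairs. -/
def tRes {O O' : X.Opens} (h : O ≤ O') : Ptriv O.ι ⟶ Ptriv O'.ι := (exists_trivRes h).choose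

theorem tRes_base {O O' : X.Opens} (h : O ≤ O') : (tRes h).base = X.homOfLE h := (exists_trivRes h).choose_spec.1

instance {O O' : X.Opens} (h : O ≤ O') : IsIso (fib (tRes h)) := (exists_trivRes h).choose_spec.2.1

theorem tRes_proj {O O' : X.Opens} (h : O ≤ O') : tRes h ≫ trivProj O'.ι = trivProj O.ι :=
  (exists_trivRes h).choose_spec.2.2

/-- The chosen inclusion of restrictions. -/
def qRes (P' : Pr.{u}) (w : P'.base ⟶ X) {O O' : X.Opens} (h : O ≤ O') : QO P' w O ⟶ QO P' w O' :=
  (exists_QRes P' w h).choose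

theorem qRes_base {O O' : X.Opens} (h : O ≤ O') :
    (qRes P' w h).base = P'.base.homOfLE (w.preimage_mono h) := (exists_QRes P' w h).choose_spec.1

instance {O O' : X.Opens} (h : O ≤ O') : IsIso (fib (qRes P' w h)) := (exists_QRes P' w h).choose_spec.2.1

theorem qRes_k {O O' : X.Opens} (h : O ≤ O') : qRes P' w h ≫ kO P' w O' = kO P' w O :=
  (exists_QRes P' w h).choose_spec.2.2

theorem tRes_comp {O O' O'' : X.Opens} (h : O ≤ O') (h' : O' ≤ O'') : tRes h ≫ tRes h' = tRes (h.trans h') := by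
  refine cancel (trivProj O''.ι) ?_ ?_
  · show (tRes h).base ≫ (tRes h').base = _
    rw [tRes_base, tRes_base, tRes_base, Scheme.homOfLE_homOfLE]
  · rw [Category.assoc, tRes_proj, tRes_proj, tRes_proj]

theorem qRes_comp {O O' O'' : X.Opens} (h : O ≤ O') (h' : O' ≤ O'') :
    qRes P' w h ≫ qRes P' w h' = qRes P' w (h.trans h') := by
  refine cancel (kO P' w O'') ?_ ?_
  · show (qRes P' w h).base ≫ (qRes P' w h').base = _
    rw [qRes_base, qRes_base, qRes_base, Scheme.homOfLE_homOfLE]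
  · rw [Category.assoc, qRes_k, qRes_k, qRes_k]

variable (d : LDatum P' w)

/-- Invariant frames restrict. -/
theorem IsFrameHom.restrict {O O' : X.Opens} (h : O ≤ O') {F : QO P' w O' ⟶ Ptriv O'.ι} (hF : IsFrameHom d O' F) :
    ∃ F' : QO P' w O ⟶ Ptriv O.ι, F' ≫ tRes h = qRes P' w h ≫ F ∧ IsFrameHom d O F' := by
  haveI := hF.iso
  haveI := isIso_fib_comp (qRes P' w h) F
  obtain ⟨F', h1, h2, h3⟩ := exists_lift (tRes h) (qRes P' w h ≫ F) (w ∣_ O) (by
    show _ = (qRes P' w h).base ≫ F.base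
    rw [tRes_base, hF.base, qRes_base, ← cancel_mono O'.ι, Category.assoc, X.homOfLE_ι, morphismRestrict_ι,
      Category.assoc, morphismRestrict_ι, Scheme.homOfLE_ι_assoc])
  refine ⟨F', h2, h1, h3 inferInstance, fun {W} c c' hc hc' hr => ?_⟩
  haveI := hc
  haveI := hc'
  haveI := isIso_fib_comp c (qRes P' w h)
  haveI := isIso_fib_comp c' (qRes P' w h)
  have h4 := hF.inv (c ≫ qRes P' w h) (c' ≫ qRes P' w h) inferInstance inferInstance (by
    rw [Category.assoc, Category.assoc, qRes_k]; exact hr)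
  rw [Category.assoc, Category.assoc, ← h2, ← Category.assoc, ← Category.assoc] at h4
  refine cancel (tRes h) ?_ h4
  have h5 : (c.base ≫ F'.base) ≫ (tRes h).base = (c'.base ≫ F'.base) ≫ (tRes h).base :=
    congrArg CoGrothendieck.Hom.base h4
  rw [tRes_base] at h5
  exact (cancel_mono _).1 h5

variable [Flat w] [Surjective w] [LocallyOfFinitePresentation w]

/-- Invariant frames over the same open differ by a unit. -/
theorem IsFrameHom.exists_unit (hP' : PicF.IsInvertible (mdl P')) {O : X.Opens} {F G : QO P' w O ⟶ Ptriv O.ι}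
    (hF : IsFrameHom d O F) (hG : IsFrameHom d O G) :
    ∃ a : Γ(O.toScheme, ⊤), IsUnit a ∧ G = F ≫ smulH (P := Ptriv O.ι) a (𝟙 _) := by
  haveI := hF.iso
  haveI := hG.iso
  haveI : Flat F.base := by rw [hF.base]; exact IsZariskiLocalAtTarget.restrict ‹Flat w› O
  haveI : LocallyOfFinitePresentation F.base := by
    rw [hF.base]; exact IsZariskiLocalAtTarget.restrict ‹LocallyOfFinitePresentation w› O
  haveI : Surjective F.base := by rw [hF.base]; exact IsZariskiLocalAtTarget.restrict ‹Surjective w› O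
  have hQ : PicF.IsInvertible (mdl (QO P' w O)) := PicClLib.isInvertible_pullback _ hP'
  obtain ⟨θ, hθb, hθi, hθ⟩ := exists_desc (inv_Ptriv O.ι) hQ (inv_Ptriv O.ι) F G (𝟙 _)
    ((Category.comp_id _).trans (hF.base.trans hG.base.symm)) fun W a a' ha ha' h => by
    haveI := ha
    haveI := ha'
    haveI := isIso_fib_comp a (kO P' w O)
    haveI := isIso_fib_comp a' (kO P' w O)
    have hb : a.base ≫ w ∣_ O = a'.base ≫ w ∣_ O := by
      have h1 : a.base ≫ F.base = a'.base ≫ F.base := congrArg CoGrothendieck.Hom.base h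
      rwa [hF.base] at h1
    have hw : (a.base ≫ (w ⁻¹ᵁ O).ι) ≫ w = (a'.base ≫ (w ⁻¹ᵁ O).ι) ≫ w := by
      rw [Category.assoc, Category.assoc, ← morphismRestrict_ι, reassoc_of% hb]
    obtain ⟨a'', hb'', hi'', hr⟩ := d.exists_rel (a ≫ kO P' w O) (a'.base ≫ (w ⁻¹ᵁ O).ι) inferInstance hw
    obtain ⟨z, hzb, hz, hzi⟩ := exists_lift (kO P' w O) a'' a'.base hb''.symm
    haveI := hzi hi''
    rw [← hz] at hr
    have hz' : z = a' := cancel F (by rw [hzb]) ((hF.inv a z ha inferInstance hr).symm.trans h)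
    subst hz'
    exact hG.inv a z ha ha' hr
  haveI := hθi
  haveI := isIso_fib_id (Ptriv O.ι)
  obtain ⟨a, rfl⟩ := exists_eq_smulH (inv_Ptriv O.ι) θ (𝟙 _) hθb
  exact ⟨a, isUnit_of_isIso_fib (inv_Ptriv O.ι) (𝟙 _), hθ.symm⟩

theorem eq_of_frame_smul (hP' : PicF.IsInvertible (mdl P')) {O : X.Opens} {F : QO P' w O ⟶ Ptriv O.ι}
    (hF : IsFrameHom d O F) {a b : Γ(O.toScheme, ⊤)}
    (h : F ≫ smulH (P := Ptriv O.ι) a (𝟙 _) = F ≫ smulH (P := Ptriv O.ι) b (𝟙 _)) : a = b := by
  haveI := hF.iso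
  haveI : Flat F.base := by rw [hF.base]; exact IsZariskiLocalAtTarget.restrict ‹Flat w› O
  haveI : LocallyOfFinitePresentation F.base := by
    rw [hF.base]; exact IsZariskiLocalAtTarget.restrict ‹LocallyOfFinitePresentation w› O
  haveI : Surjective F.base := by rw [hF.base]; exact IsZariskiLocalAtTarget.restrict ‹Surjective w› O
  rw [comp_smulH (inv_Ptriv O.ι), comp_smulH (inv_Ptriv O.ι), Category.comp_id] at h
  exact appTop_injective F.base (smulH_injective (PicClLib.isInvertible_pullback _ hP') F h)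

/-- fppf descent of invertible modules. -/
theorem exists_descent (hP' : PicF.IsInvertible (mdl P')) :
    ∃ (L : X.Modules), PicF.IsInvertible L ∧ ∃ C : P' ⟶ (⟨X, L⟩ : Pr.{u}), C.base = w ∧ IsIso (fib C) ∧
      ∀ {W : Pr.{u}} (a a' : W ⟶ P'), IsIso (fib a) → IsIso (fib a') → d.Rel a a' → a ≫ C = a' ≫ C := by
  choose U hU F hF using exists_frame d hP'
  -- restricted frames and their ratios
  choose Fr hFr hFrF using fun (x : X) (O : X.Opens) (h : O ≤ U x) => (hF x).restrict d h
  choose η hηu hη using fun x y (O : X.Opens) (hx : O ≤ U x) (hy : O ≤ U y) =>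
    (hFrF x O hx).exists_unit d hP' (hFrF y O hy)
  have hηres : ∀ x y (O O' : X.Opens) (h : O ≤ O') (hx : O' ≤ U x) (hy : O' ≤ U y),
      (X.homOfLE h).appTop (η x y O' hx hy) = η x y O (h.trans hx) (h.trans hy) := by
    intro x y O O' h hx hy
    refine eq_of_frame_smul d hP' (hFrF x O (h.trans hx)) ?_
    rw [← hη]
    haveI := (hFrF y O (h.trans hy)).iso
    have hres : ∀ z (hz : O' ≤ U z), Fr z O (h.trans hz) ≫ tRes h = qRes P' w h ≫ Fr z O' hz := by
      intro z hz
      refine cancel (tRes hz) ?_ ?_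
      · show (Fr z O _).base ≫ (tRes h).base = (qRes P' w h).base ≫ (Fr z O' hz).base
        rw [(hFrF z O _).base, (hFrF z O' _).base, tRes_base, qRes_base, ← cancel_mono O'.ι, Category.assoc,
          X.homOfLE_ι, morphismRestrict_ι, Category.assoc, morphismRestrict_ι, Scheme.homOfLE_ι_assoc]
      · rw [Category.assoc, tRes_comp, hFr z O _, Category.assoc, hFr z O' hz, ← Category.assoc, qRes_comp]
    refine cancel (tRes h) ?_ ?_
    · show (Fr x O _).base ≫ 𝟙 _ = (Fr y O _).base
      rw [Category.comp_id, (hFrF x O _).base, (hFrF y O _).base]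
    · rw [Category.assoc, smulH_comp, Category.id_comp, hres y hy, hη x y O' hx hy, ← Category.assoc, ← hres x hx,
        Category.assoc, comp_smulH (inv_Ptriv O'.ι), tRes_base, Category.comp_id]
  have hηtrans : ∀ x y z (O : X.Opens) (hx : O ≤ U x) (hy : O ≤ U y) (hz : O ≤ U z),
      η x z O hx hz = η y z O hy hz * η x y O hx hy := by
    intro x y z O hx hy hz
    refine eq_of_frame_smul d hP' (hFrF x O hx) ?_
    rw [← hη]
    conv_lhs => rw [hη y z O hy hz, hη x y O hx hy]
    rw [Category.assoc, smulH_comp, Category.id_comp, smulH_smulH]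
  -- the glued module
  let g : ∀ x y, (Γ(X, U x ⊓ U y))ˣ := fun x y =>
    ((hηu x y (U x ⊓ U y) inf_le_left inf_le_right).map (U x ⊓ U y).topIso.hom.hom).unit
  have hg : ∀ x y (O : X.Opens) (hx : O ≤ U x) (hy : O ≤ U y),
      resR (le_inf hx hy) (g x y : Γ(X, U x ⊓ U y)) = O.topIso.hom (η x y O hx hy) := by
    intro x y O hx hy
    rw [← hηres x y O _ (le_inf hx hy) inf_le_left inf_le_right, topIso_homOfLE_appTop]
    rfl
  let t : CocycleMod.Cocycle U := ⟨g, fun x y z O hx hy hz => by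
    rw [hg x z O hx hz, hg y z O hy hz, hg x y O hx hy, hηtrans x y z O hx hy hz, map_mul]⟩
  have hcov : iSup U = ⊤ := eq_top_iff.2 fun p _ => Opens.mem_iSup.2 ⟨p, hU p⟩
  let L := CocycleMod.mod t
  choose j hjb hji hj using fun x => exists_homOfFrame (CocycleMod.isFrame_frame t x)
  -- the comparison of two charts
  have hcmp : ∀ x y (O : X.Opens) (hx : O ≤ U x) (hy : O ≤ U y),
      smulH (η x y O hx hy) (tRes hy ≫ j y) = tRes hx ≫ j x := by
    intro x y O hx hy
    haveI := hji x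
    haveI := hji y
    haveI := isIso_fib_comp (tRes hx) (j x)
    haveI := isIso_fib_comp (tRes hy) (j y)
    haveI := isIso_fib_smulH (tRes hy ≫ j y) (hηu x y O hx hy)
    have hb : ∀ z (hz : O ≤ U z), (tRes hz ≫ j z).base = O.ι := fun z hz => by
      show (tRes hz).base ≫ (j z).base = _
      rw [tRes_base, hjb, X.homOfLE_ι]
    have hmem : ∀ z (hz : O ≤ U z), ∀ p, p ∈ (tRes hz ≫ j z).base ⁻¹ᵁ O := fun z hz p => by
      rw [hb]; exact p.2
    refine eq_of_pl_frame (O := O) (e := res L hx (CocycleMod.frame t x))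
      (by rw [smulH_base, hb, hb]) ((CocycleMod.isFrame_frame t x).res hx) (fun p => by
        show p ∈ (tRes hy ≫ j y).base ⁻¹ᵁ O; exact hmem y hy p) ?_
    haveI : ∀ z (hz : O ≤ U z), IsIso (fib (tRes hz ≫ j z)) := fun z hz => by
      haveI := hji z; exact isIso_fib_comp _ _
    -- both sides pull back the frames to `1`
    have hone : ∀ z (hz : O ≤ U z) (hle : (⊤ : O.toScheme.Opens) ≤ (tRes hz ≫ j z).base ⁻¹ᵁ O),
        res (mdl (Ptriv O.ι)) hle (pl (tRes hz ≫ j z) (res L hz (CocycleMod.frame t z))) =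
          res (mdl (Ptriv O.ι)) (fun p _ => p.2 : (⊤ : O.toScheme.Opens) ≤ O.ι ⁻¹ᵁ O)
            (pl (trivProj O.ι) (U := O) (1 : Γ(X, O))) := by
      intro z hz hle
      have hle' : (⊤ : O.toScheme.Opens) ≤ (tRes hz ≫ j z).base ⁻¹ᵁ U z :=
        fun p hp => hz (hle hp)
      rw [← pl_res (tRes hz ≫ j z) hz, res_res, pl_comp]
      have h1 : (⊤ : O.toScheme.Opens) ≤ (tRes hz).base ⁻¹ᵁ ((U z).ι ⁻¹ᵁ U z) := fun p _ => ((tRes hz).base p).2
      have h2 : (U z).ι ⁻¹ᵁ U z ≤ (j z).base ⁻¹ᵁ U z := by rw [hjb]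
      have e1 := congrArg (fun q => res (mdl (Ptriv O.ι)) h1 (pl (tRes hz) q)) (hj z ((U z).ι ⁻¹ᵁ U z) h2 le_rfl)
      simp only [res_self] at e1
      rw [← pl_res (tRes hz) h2, res_res] at e1
      refine e1.trans ?_
      haveI := isIso_fib_comp (tRes hz) (trivProj (U z).ι)
      have e2 : pullElt (U z).ι (M := Coh.structureModule X) (U := U z) (1 : Γ(X, U z)) =
          pl (trivProj (U z).ι) (U := U z) (1 : Γ(X, U z)) := (fib_pl (trivProj (U z).ι) _).symm.trans rfl
      rw [e2, ← pl_comp]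
      refine (pl_congr (tRes_proj hz) _ _ (fun p _ => hz p.2 : (⊤ : O.toScheme.Opens) ≤ O.ι ⁻¹ᵁ U z)).trans ?_
      have e3 : res (Coh.structureModule X) hz (show Γ(Coh.structureModule X, U z) from (1 : Γ(X, U z))) =
          (1 : Γ(X, O)) := map_one (X.presheaf.map (homOfLE hz).op).hom
      rw [← e3]
      erw [← pl_res (trivProj O.ι) hz, res_res]
    have hyv : res L hx (CocycleMod.frame t x) = O.topIso.hom (η x y O hx hy) • res L hy (CocycleMod.frame t y) := by
      have h := congrArg (res L (le_inf hx hy : O ≤ U x ⊓ U y)) (CocycleMod.res_frame t x y)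
      rw [res_res, res_smul, res_res] at h
      rw [h]
      congr 1
      exact hg x y O hx hy
    have hu := (hηu x y O hx hy).map (resR (le_top : (⊤ : O.toScheme.Opens) ≤ ⊤))
    rw [← hu.smul_left_cancel, hone x hx]
    have h1 := congrArg (res (mdl (Ptriv O.ι)) (fun p _ => hmem y hy p : (⊤ : O.toScheme.Opens) ≤ _))
      (pl_smulH (tRes hy ≫ j y) (a := η x y O hx hy) (res L hx (CocycleMod.frame t x)))
    rw [res_smul, resR_resR] at h1
    refine h1.trans ?_
    rw [hyv, pl_smul, res_smul, hone y hy]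
    congr 1
    rw [resR_self]
    have key : ∀ (b : O.toScheme ⟶ X) (_ : b = O.ι) (h : (⊤ : O.toScheme.Opens) ≤ b ⁻¹ᵁ O),
        resR h (b.app O (O.topIso.hom (η x y O hx hy))) = η x y O hx hy := by
      rintro _ rfl h
      have hnat : resR h (O.ι.app O (O.topIso.hom (η x y O hx hy))) =
          (O.topIso.hom ≫ O.ι.app O ≫ O.toScheme.presheaf.map (homOfLE h).op) (η x y O hx hy) := rfl
      rw [hnat]
      have hid : O.topIso.hom ≫ O.ι.app O ≫ O.toScheme.presheaf.map (homOfLE h).op = 𝟙 _ := by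
        rw [Scheme.Opens.topIso_hom, Scheme.Opens.ι_app]
        show X.presheaf.map _ ≫ X.presheaf.map _ ≫ X.presheaf.map _ = 𝟙 _
        rw [← Functor.map_comp, ← Functor.map_comp]
        exact X.presheaf.map_id _
      rw [hid]
      rfl
    exact key _ (hb y hy) _
  -- glue
  let k : ∀ x, QO P' w (U x) ⟶ P' := fun x => kO P' w (U x)
  haveI : ∀ x, IsIso (fib (F x)) := fun x => (hF x).iso
  haveI : ∀ x, IsIso (fib (j x)) := fun x => hji x
  haveI : ∀ x, IsIso (fib (F x ≫ j x)) := fun x => isIso_fib_comp _ _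
  obtain ⟨C, hCb, hCi, hC⟩ := exists_glue_hom k (fun p => ⟨w p, ⟨p, hU (w p)⟩, rfl⟩) (fun x => F x ≫ j x) w
    (fun x => by
      show (w ⁻¹ᵁ U x).ι ≫ w = (F x).base ≫ (j x).base
      rw [(hF x).base, hjb, morphismRestrict_ι])
    fun x y W a a' ha ha' h => by
      let O := U x ⊓ U y
      haveI := ha
      haveI := ha'
      haveI := isIso_fib_comp a (k x)
      have hb : a.base ≫ (w ⁻¹ᵁ U x).ι = a'.base ≫ (w ⁻¹ᵁ U y).ι := congrArg CoGrothendieck.Hom.base h
      have hr : Set.range (a ≫ k x).base ⊆ Set.range (w ⁻¹ᵁ O).ι := by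
        rintro _ ⟨p, rfl⟩
        rw [Scheme.Opens.range_ι]
        refine ⟨(a.base p).2, ?_⟩
        show w ((a.base ≫ (w ⁻¹ᵁ U x).ι) p) ∈ U y
        rw [hb]
        exact (a'.base p).2
      obtain ⟨c, hcb, hc, hci⟩ := exists_lift (kO P' w O) (a ≫ k x) (IsOpenImmersion.lift (w ⁻¹ᵁ O).ι _ hr)
        (IsOpenImmersion.lift_fac _ _ _)
      haveI := hci inferInstance
      have hax : a = c ≫ qRes P' w (inf_le_left : O ≤ U x) := by
        refine cancel (k x) ?_ ?_
        · show a.base = c.base ≫ (qRes P' w inf_le_left).base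
          rw [qRes_base, ← cancel_mono (w ⁻¹ᵁ U x).ι, Category.assoc, Scheme.homOfLE_ι]
          exact (congrArg CoGrothendieck.Hom.base hc).symm
        · rw [Category.assoc, qRes_k, hc]
      have hay : a' = c ≫ qRes P' w (inf_le_right : O ≤ U y) := by
        refine cancel (k y) ?_ ?_
        · show a'.base = c.base ≫ (qRes P' w inf_le_right).base
          rw [qRes_base, ← cancel_mono (w ⁻¹ᵁ U y).ι, Category.assoc, Scheme.homOfLE_ι]
          exact hb.symm.trans (congrArg CoGrothendieck.Hom.base hc).symm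
        · rw [Category.assoc, qRes_k, hc, h]
      rw [hax, hay, Category.assoc, Category.assoc]
      refine congrArg (c ≫ ·) ?_
      rw [← Category.assoc, ← hFr x O inf_le_left, Category.assoc, ← hcmp x y O inf_le_left inf_le_right,
        ← Category.assoc (qRes P' w _), ← hFr y O inf_le_right, hη x y O inf_le_left inf_le_right, Category.assoc,
        Category.assoc, smulH_comp, Category.id_comp]
  refine ⟨L, CocycleMod.isInvertible t hcov, C, hCb, hCi, fun {W} a a' ha ha' hr => ?_⟩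
  haveI := ha
  haveI := ha'
  haveI := hCi
  haveI := isIso_fib_comp a C
  haveI := isIso_fib_comp a' C
  -- check on the preimages of the opens
  let O' : X → W.base.Opens := fun x => (a.base ≫ w) ⁻¹ᵁ U x
  let Wi : X → Pr.{u} := fun x => ⟨(O' x).toScheme, (Scheme.Modules.pullback (O' x).ι).obj (mdl W)⟩
  let i : ∀ x, Wi x ⟶ W := fun x => mkH (O' x).ι (𝟙 _)
  haveI : ∀ x, IsIso (fib (i x)) := fun x => inferInstanceAs (IsIso (𝟙 _))
  haveI : ∀ x, IsOpenImmersion (i x).base := fun x => inferInstanceAs (IsOpenImmersion (O' x).ι)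
  refine eq_of_pl_cover i (fun p => ⟨w (a.base p), ⟨p, hU _⟩, rfl⟩) ?_ fun x => ?_
  · show a.base ≫ C.base = a'.base ≫ C.base
    rw [hCb]; exact d.base hr
  · haveI := isIso_fib_comp (i x) a
    haveI := isIso_fib_comp (i x) a'
    have hw : (i x ≫ a).base ≫ w = (i x ≫ a').base ≫ w := by
      show ((O' x).ι ≫ a.base) ≫ w = ((O' x).ι ≫ a'.base) ≫ w
      rw [Category.assoc, Category.assoc, d.base hr]
    have hlift : ∀ c : Wi x ⟶ P', IsIso (fib c) → c.base ≫ w = (i x ≫ a).base ≫ w →
        ∃ c' : Wi x ⟶ QO P' w (U x), IsIso (fib c') ∧ c' ≫ k x = c := by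
      intro c hc hcw
      have hr' : Set.range c.base ⊆ Set.range (w ⁻¹ᵁ U x).ι := by
        rintro _ ⟨p, rfl⟩
        rw [Scheme.Opens.range_ι]
        show (c.base ≫ w) p ∈ U x
        rw [hcw]
        exact p.2
      obtain ⟨c', -, h2, h3⟩ := exists_lift (k x) c (IsOpenImmersion.lift (w ⁻¹ᵁ U x).ι _ hr')
        (IsOpenImmersion.lift_fac _ _ _)
      exact ⟨c', h3 hc, h2⟩
    obtain ⟨c, hci, hc⟩ := hlift (i x ≫ a) inferInstance rfl
    obtain ⟨c', hci', hc'⟩ := hlift (i x ≫ a') inferInstance hw.symm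
    rw [← Category.assoc, ← hc, ← Category.assoc, ← hc', Category.assoc, Category.assoc, hC, ← Category.assoc,
      (hF x).inv c c' hci hci' (by rw [hc, hc']; exact d.natural (i x) inferInstance ha ha' hr), Category.assoc]

end Groth.Agent.LineDesc
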