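import Groth.Agent.LineDesc.Hilbert90
import Mathlib.AlgebraicGeometry.Pullbacks
import Mathlib.AlgebraicGeometry.Morphisms.UniversallyOpen

/-!
# Multiplicative descent data on affine schemes are locally trivial
-/

set_option autoImplicit false
set_option backward.isDefEq.respectTransparency false
set_option backward.isDefEq.respectTransparency.types false
set_option linter.style.haveILetI false
set_option maxHeartbeats 1000000

universe u

open CategoryTheory CategoryTheory.Limits AlgebraicGeometry TopologicalSpace TensorProduct Algebra.TensorProduct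

noncomputable section

namespace Groth.Agent.LineDesc

/-- A multiplicative descent datum for functions along `v`. -/
structure Datum {V U : Scheme.{u}} (v : V ⟶ U) where
  /-- The transition function. -/
  γ : ∀ {Z : Scheme.{u}} (q₁ q₂ : Z ⟶ V), q₁ ≫ v = q₂ ≫ v → Γ(Z, ⊤)
  natural : ∀ {Z' Z : Scheme.{u}} (c : Z' ⟶ Z) (q₁ q₂ : Z ⟶ V) (h : q₁ ≫ v = q₂ ≫ v),
    c.appTop (γ q₁ q₂ h) = γ (c ≫ q₁) (c ≫ q₂) (by rw [Category.assoc, h, Category.assoc])
  refl : ∀ {Z : Scheme.{u}} (q : Z ⟶ V), γ q q rfl = 1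
  trans : ∀ {Z : Scheme.{u}} (q₁ q₂ q₃ : Z ⟶ V) (h : q₁ ≫ v = q₂ ≫ v) (h' : q₂ ≫ v = q₃ ≫ v),
    γ q₁ q₃ (h.trans h') = γ q₁ q₂ h * γ q₂ q₃ h'

namespace Datum

variable {V U : Scheme.{u}} {v : V ⟶ U} (d : Datum v)

theorem isUnit {Z : Scheme.{u}} (q₁ q₂ : Z ⟶ V) (h : q₁ ≫ v = q₂ ≫ v) : IsUnit (d.γ q₁ q₂ h) :=
  IsUnit.of_mul_eq_one (d.γ q₂ q₁ h.symm) (by rw [← d.trans q₁ q₂ q₁ h h.symm, d.refl])

theorem congr {Z : Scheme.{u}} {q₁ q₂ p₁ p₂ : Z ⟶ V} {h : q₁ ≫ v = q₂ ≫ v} {h' : p₁ ≫ v = p₂ ≫ v}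
    (e₁ : q₁ = p₁) (e₂ : q₂ = p₂) : d.γ q₁ q₂ h = d.γ p₁ p₂ h' := by
  subst e₁ e₂; rfl

end Datum

variable {R S : Type u} [CommRing R] [CommRing S] [Algebra R S]

variable (R S) in
/-- The morphism of spectra. -/
abbrev spv : Spec (CommRingCat.of S) ⟶ Spec (CommRingCat.of R) := Spec.map (CommRingCat.ofHom (algebraMap R S))

variable (R S) in
/-- The first projection. -/
abbrev spl : Spec (CommRingCat.of (S ⊗[R] S)) ⟶ Spec (CommRingCat.of S) :=
  Spec.map (CommRingCat.ofHom includeLeftRingHom)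

variable (R S) in
/-- The second projection. -/
abbrev spr : Spec (CommRingCat.of (S ⊗[R] S)) ⟶ Spec (CommRingCat.of S) :=
  Spec.map (CommRingCat.ofHom (includeRight (R := R) (A := S) (B := S)).toRingHom)

theorem spl_spv : spl R S ≫ spv R S = spr R S ≫ spv R S := by
  rw [spl, spr, spv, ← Spec.map_comp, ← Spec.map_comp, ← CommRingCat.ofHom_comp, ← CommRingCat.ofHom_comp]
  congr 2
  ext r
  exact Algebra.TensorProduct.tmul_one_eq_one_tmul r

theorem appTop_comp_apply {X Y Z : Scheme.{u}} (f : X ⟶ Y) (g : Y ⟶ Z) (a : Γ(Z, ⊤)) :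
    (f ≫ g).appTop a = f.appTop (g.appTop a) := rfl

theorem spec_appTop {A B : Type u} [CommRing A] [CommRing B] (φ : A →+* B) (a : A) :
    (Spec.map (CommRingCat.ofHom φ)).appTop ((Scheme.ΓSpecIso (CommRingCat.of A)).inv a) =
      (Scheme.ΓSpecIso (CommRingCat.of B)).inv (φ a) :=
  congr($((Scheme.ΓSpecIso_inv_naturality (CommRingCat.ofHom φ)).symm) a)

/-- The ring element of the datum. -/
def elt (d : Datum (spv R S)) : S ⊗[R] S :=
  (Scheme.ΓSpecIso (CommRingCat.of (S ⊗[R] S))).hom (d.γ (spr R S) (spl R S) spl_spv.symm)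

theorem inv_elt (d : Datum (spv R S)) :
    (Scheme.ΓSpecIso (CommRingCat.of (S ⊗[R] S))).inv (elt d) = d.γ (spr R S) (spl R S) spl_spv.symm :=
  congr($((Scheme.ΓSpecIso (CommRingCat.of (S ⊗[R] S))).hom_inv_id) (d.γ (spr R S) (spl R S) spl_spv.symm))

theorem mu_elt (d : Datum (spv R S)) : Algebra.TensorProduct.lmul' R (elt d) = 1 := by
  refine (ConcreteCategory.bijective_of_isIso (Scheme.ΓSpecIso (CommRingCat.of S)).inv).1 ?_
  rw [map_one]
  refine (spec_appTop (Algebra.TensorProduct.lmul' R : S ⊗[R] S →ₐ[R] S).toRingHom (elt d)).symm.trans ?_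
  rw [inv_elt, d.natural]
  refine (d.congr (p₁ := 𝟙 _) (p₂ := 𝟙 _) (h' := rfl) ?_ ?_).trans (d.refl _)
  all_goals
    rw [← Spec.map_comp, ← Spec.map_id]
    congr 1
    ext s
    simp

theorem cocycle_elt (d : Datum (spv R S)) : m23 R S (elt d) * m12 R S (elt d) = m13 R S (elt d) := by
  refine (ConcreteCategory.bijective_of_isIso (Scheme.ΓSpecIso (CommRingCat.of (S ⊗[R] (S ⊗[R] S)))).inv).1 ?_
  rw [map_mul]
  let mk : (S ⊗[R] S →ₐ[R] S ⊗[R] (S ⊗[R] S)) →
      (Spec (CommRingCat.of (S ⊗[R] (S ⊗[R] S))) ⟶ Spec (CommRingCat.of (S ⊗[R] S))) := fun m =>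
    Spec.map (CommRingCat.ofHom m.toRingHom)
  have h : ∀ m, (Scheme.ΓSpecIso (CommRingCat.of (S ⊗[R] (S ⊗[R] S)))).inv (m (elt d)) =
      d.γ (mk m ≫ spr R S) (mk m ≫ spl R S) (by rw [Category.assoc, ← spl_spv, Category.assoc]) := fun m => by
    refine (spec_appTop m.toRingHom (elt d)).symm.trans ?_
    rw [inv_elt, d.natural]
  rw [h, h, h]
  have e₁ : mk (m23 R S) ≫ spl R S = mk (m12 R S) ≫ spr R S := by
    simp only [mk, spl, spr, ← Spec.map_comp, ← CommRingCat.ofHom_comp]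
    congr 2
  have e₂ : mk (m13 R S) ≫ spr R S = mk (m23 R S) ≫ spr R S := by
    simp only [mk, spl, spr, ← Spec.map_comp, ← CommRingCat.ofHom_comp]
    congr 2
  have e₃ : mk (m13 R S) ≫ spl R S = mk (m12 R S) ≫ spl R S := by
    simp only [mk, spl, spr, ← Spec.map_comp, ← CommRingCat.ofHom_comp]
    congr 2
  have e0 : ∀ m, (mk m ≫ spr R S) ≫ spv R S = (mk m ≫ spl R S) ≫ spv R S := fun m => by
    rw [Category.assoc, ← spl_spv, Category.assoc]
  rw [d.congr (h' := (e0 (m13 R S)).trans rfl) rfl rfl, d.congr (h := e0 (m12 R S)) (p₁ := mk (m23 R S) ≫ spl R S)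
    (p₂ := mk (m13 R S) ≫ spl R S) (h' := by rw [e₁, e₃]; exact e0 _) e₁.symm e₃.symm, ← d.trans]
  exact d.congr e₂.symm rfl

/-- A datum is locally the coboundary of an invertible function. -/
theorem exists_coboundary [Flat (spv R S)] [Surjective (spv R S)] [LocallyOfFinitePresentation (spv R S)]
    (d : Datum (spv R S)) (x : Spec (CommRingCat.of R)) :
    ∃ O : (Spec (CommRingCat.of R)).Opens, x ∈ O ∧ ∃ s : Γ(Spec (CommRingCat.of S), ⊤),
      spv R S ⁻¹ᵁ O ≤ (Spec (CommRingCat.of S)).basicOpen s ∧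
      ∀ (Z : Scheme.{u}) (q₁ q₂ : Z ⟶ Spec (CommRingCat.of S)) (h : q₁ ≫ spv R S = q₂ ≫ spv R S),
        d.γ q₁ q₂ h * q₂.appTop s = q₁.appTop s := by
  obtain ⟨q, rfl⟩ := (spv R S).surjective x
  haveI : Module.Flat R S :=
    RingHom.flat_algebraMap_iff.1 ((HasRingHomProperty.Spec_iff (P := @Flat)).1 ‹Flat (spv R S)›)
  obtain ⟨m, hm, hmq⟩ : ∃ m ∈ invSet (elt d), m ∉ q.asIdeal := by
    by_contra hne
    exact q.2.ne_top (eq_top_iff.2 (span_invSet (elt d) (mu_elt d) (cocycle_elt d) ▸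
      Ideal.span_le.2 fun m hm => by
        by_contra h
        exact hne ⟨m, hm, h⟩))
  let s := (Scheme.ΓSpecIso (CommRingCat.of S)).inv m
  have hinv : ∀ (Z : Scheme.{u}) (q₁ q₂ : Z ⟶ Spec (CommRingCat.of S)) (h : q₁ ≫ spv R S = q₂ ≫ spv R S),
      d.γ q₁ q₂ h * q₂.appTop s = q₁.appTop s := by
    intro Z q₁ q₂ h
    let l := pullback.lift q₂ q₁ h.symm ≫ (pullbackSpecIso R S S).hom
    have hl₂ : l ≫ spl R S = q₂ := by simp [l, spl]
    have hl₁ : l ≫ spr R S = q₁ := by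
      show (pullback.lift q₂ q₁ h.symm ≫ (pullbackSpecIso R S S).hom) ≫ _ = _
      rw [Category.assoc]
      erw [pullbackSpecIso_hom_snd]
      exact pullback.lift_snd _ _ _
    have hm' : (Scheme.ΓSpecIso (CommRingCat.of (S ⊗[R] S))).inv (elt d * (m ⊗ₜ[R] 1)) =
        (Scheme.ΓSpecIso (CommRingCat.of (S ⊗[R] S))).inv ((1 : S) ⊗ₜ[R] m) := congrArg _ hm
    have h₂ : (spl R S).appTop s = (Scheme.ΓSpecIso (CommRingCat.of (S ⊗[R] S))).inv (m ⊗ₜ[R] (1 : S)) :=
      spec_appTop _ m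
    have h₁ : (spr R S).appTop s = (Scheme.ΓSpecIso (CommRingCat.of (S ⊗[R] S))).inv ((1 : S) ⊗ₜ[R] m) :=
      spec_appTop _ m
    rw [map_mul, ← h₁, ← h₂, inv_elt] at hm'
    have := congrArg l.appTop hm'
    rw [map_mul, d.natural, ← appTop_comp_apply, ← appTop_comp_apply] at this
    rw [d.congr (h' := h) hl₁ hl₂, hl₁, hl₂] at this
    exact this
  let D := (Spec (CommRingCat.of S)).basicOpen s
  refine ⟨⟨spv R S '' D, (spv R S).isOpenMap _ D.2⟩, ⟨q, ?_, rfl⟩, s, ?_, hinv⟩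
  · show q ∈ (Spec (CommRingCat.of S)).basicOpen ((Scheme.ΓSpecIso (CommRingCat.of S)).inv m)
    rw [basicOpen_eq_of_affine (R := CommRingCat.of S) m]
    exact hmq
  · rintro q' ⟨q₀, hq₀, hqq⟩
    obtain ⟨z, hz₁, hz₂⟩ := Scheme.Pullback.exists_preimage_pullback (f := spv R S) (g := spv R S) q' q₀ hqq.symm
    have h := congrArg (pullback (spv R S) (spv R S)).basicOpen (hinv _ (pullback.fst _ _) (pullback.snd _ _) pullback.condition)
    rw [Scheme.basicOpen_mul, Scheme.basicOpen_of_isUnit _ (d.isUnit _ _ _), ← Scheme.preimage_basicOpen_top,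
      ← Scheme.preimage_basicOpen_top] at h
    have hz : z ∈ (⊤ : (pullback (spv R S) (spv R S)).Opens) ⊓
        pullback.snd (spv R S) (spv R S) ⁻¹ᵁ (Spec (CommRingCat.of S)).basicOpen s := by
      refine ⟨trivial, ?_⟩
      show (pullback.snd (spv R S) (spv R S)) z ∈ (Spec (CommRingCat.of S)).basicOpen s
      rw [hz₂]; exact hq₀
    rw [h] at hz
    change (pullback.fst (spv R S) (spv R S)) z ∈ (Spec (CommRingCat.of S)).basicOpen s at hz
    rwa [hz₁] at hz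

end Groth.Agent.LineDesc
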