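import Groth.Agent.LineDesc.Datum
import Groth.Agent.ThetaLib.GrpRep

/-!
# Invariant frames from affine charts
-/

set_option autoImplicit false
set_option backward.isDefEq.respectTransparency false
set_option backward.isDefEq.respectTransparency.types false
set_option linter.style.haveILetI false
set_option maxHeartbeats 1000000

universe u

open CategoryTheory CategoryTheory.Limits AlgebraicGeometry TopologicalSpace Pseudofunctor

noncomputable section

namespace Groth.Agent.LineDesc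

open ThetaLib

variable {X : Scheme.{u}}

/-- The trivial pair on `X`. -/
abbrev P0 (X : Scheme.{u}) : Pr.{u} := ⟨X, Coh.structureModule X⟩

theorem inv_P0 : PicF.IsInvertible (mdl (P0 X)) := PicLoc.isInvertible_structureModule X

/-- The pullback of the trivial pair. -/
abbrev Ptriv {Z : Scheme.{u}} (z : Z ⟶ X) : Pr.{u} := ⟨Z, (Scheme.Modules.pullback z).obj (Coh.structureModule X)⟩

/-- Its projection. -/
abbrev trivProj {Z : Scheme.{u}} (z : Z ⟶ X) : Ptriv z ⟶ P0 X := mkH z (𝟙 _)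

instance {Z : Scheme.{u}} (z : Z ⟶ X) : IsIso (fib (trivProj z)) := inferInstanceAs (IsIso (𝟙 _))

theorem inv_Ptriv {Z : Scheme.{u}} (z : Z ⟶ X) : PicF.IsInvertible (mdl (Ptriv z)) :=
  PicClLib.isInvertible_pullback _ (PicLoc.isInvertible_structureModule X)

variable {P' : Pr.{u}} {w : P'.base ⟶ X}

/-- The restriction of `P'` over an open of the base. -/
abbrev QO (P' : Pr.{u}) (w : P'.base ⟶ X) (O : X.Opens) : Pr.{u} :=
  ⟨(w ⁻¹ᵁ O).toScheme, (Scheme.Modules.pullback (w ⁻¹ᵁ O).ι).obj (mdl P')⟩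

/-- Its inclusion. -/
abbrev kO (P' : Pr.{u}) (w : P'.base ⟶ X) (O : X.Opens) : QO P' w O ⟶ P' := mkH (w ⁻¹ᵁ O).ι (𝟙 _)

instance (O : X.Opens) : IsIso (fib (kO P' w O)) := inferInstanceAs (IsIso (𝟙 _))

instance (O : X.Opens) : IsOpenImmersion (kO P' w O).base := inferInstanceAs (IsOpenImmersion (w ⁻¹ᵁ O).ι)

/-- An invariant frame over `O`. -/
structure IsFrameHom (d : LDatum P' w) (O : X.Opens) (F : QO P' w O ⟶ Ptriv O.ι) : Prop where
  base : F.base = w ∣_ O
  iso : IsIso (fib F)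
  inv : ∀ {W : Pr.{u}} (c c' : W ⟶ QO P' w O), IsIso (fib c) → IsIso (fib c') →
    d.Rel (c ≫ kO P' w O) (c' ≫ kO P' w O) → c ≫ F = c' ≫ F

variable {R S : Type u} [CommRing R] [CommRing S] [Algebra R S] (ιU : Spec (CommRingCat.of R) ⟶ X)
  [IsOpenImmersion ιU]

variable (S) in
/-- The trivial pair on the chart. -/
abbrev PV : Pr.{u} := Ptriv (spv R S ≫ ιU)

variable {ιU}

theorem inv_P' (hP' : PicF.IsInvertible (mdl P')) {Z : Pr.{u}} (G : Z ⟶ P') [IsIso (fib G)] :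
    PicF.IsInvertible (mdl Z) :=
  H23.PicMul.isInvertible_of_iso (asIso (fib G)).symm (PicClLib.isInvertible_pullback _ hP')

/-- The lift of a point of the chart. -/
theorem exists_ptLift {Z : Scheme.{u}} (z : Z ⟶ X) (q : Z ⟶ Spec (CommRingCat.of S)) (h : q ≫ spv R S ≫ ιU = z) :
    ∃ l : Ptriv z ⟶ PV S ιU, l.base = q ∧ l ≫ trivProj (spv R S ≫ ιU) = trivProj z ∧ IsIso (fib l) := by
  obtain ⟨l, h1, h2, h3⟩ := exists_lift (trivProj (spv R S ≫ ιU)) (trivProj z) q h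
  exact ⟨l, h1, h2, h3 inferInstance⟩

/-- A trivialised affine fppf chart gives an invariant frame. -/
theorem exists_frame_of_chart (d : LDatum P' w) (hP' : PicF.IsInvertible (mdl P')) [Flat w] [Surjective w]
    [LocallyOfFinitePresentation w] [Flat (spv R S)] [Surjective (spv R S)]
    [LocallyOfFinitePresentation (spv R S)] (e : PV S ιU ⟶ P') [IsIso (fib e)]
    (he : e.base ≫ w = spv R S ≫ ιU) (x : Spec (CommRingCat.of R)) :
    ∃ O : X.Opens, ιU x ∈ O ∧ ∃ F, IsFrameHom d O F := by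
  have hPV : PicF.IsInvertible (mdl (PV S ιU)) := inv_Ptriv (spv R S ≫ ιU)
  choose lft hlb hlp hli using fun (Z : Scheme.{u}) (z : Z ⟶ X) (q : Z ⟶ Spec (CommRingCat.of S))
    (h : q ≫ spv R S ≫ ιU = z) => exists_ptLift (S := S) z q h
  -- the transition functions
  have hγ : ∀ (Z : Scheme.{u}) (q₁ q₂ : Z ⟶ Spec (CommRingCat.of S)) (h : q₁ ≫ spv R S = q₂ ≫ spv R S),
      ∃ γ : Γ(Z, ⊤), IsUnit γ ∧ d.Rel (lft Z (q₁ ≫ spv R S ≫ ιU) q₁ rfl ≫ e)
        (smulH (P := Ptriv (q₁ ≫ spv R S ≫ ιU)) γ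
          (lft Z (q₁ ≫ spv R S ≫ ιU) q₂ (by rw [← Category.assoc, ← h, Category.assoc]) ≫ e)) := by
    intro Z q₁ q₂ h
    let z := q₁ ≫ spv R S ≫ ιU
    let l₁ := lft Z z q₁ rfl
    let l₂ := lft Z z q₂ (by rw [← Category.assoc, ← h, Category.assoc])
    haveI : IsIso (fib l₁) := hli _ _ _ _
    haveI : IsIso (fib l₂) := hli _ _ _ _
    haveI := isIso_fib_comp l₁ e
    haveI := isIso_fib_comp l₂ e
    obtain ⟨a', hab, ha'i, ha'⟩ := d.exists_rel (l₁ ≫ e) (l₂ ≫ e).base inferInstance (by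
      show (l₁.base ≫ e.base) ≫ w = (l₂.base ≫ e.base) ≫ w
      rw [Category.assoc, Category.assoc, he, hlb, hlb, ← Category.assoc, h, Category.assoc])
    obtain ⟨γ, rfl⟩ := exists_eq_smulH (inv_Ptriv z) a' (l₂ ≫ e) hab
    haveI := ha'i
    exact ⟨γ, isUnit_of_isIso_fib (inv_Ptriv z) (l₂ ≫ e), ha'⟩
  choose γ hγu hγr using hγ
  -- uniqueness
  have huniq : ∀ (Z : Scheme.{u}) (z : Z ⟶ X) (q₁ q₂ : Z ⟶ Spec (CommRingCat.of S)) (h₁ : q₁ ≫ spv R S ≫ ιU = z)
      (h₂ : q₂ ≫ spv R S ≫ ιU = z) (h : q₁ ≫ spv R S = q₂ ≫ spv R S) (a : Γ(Z, ⊤)), IsUnit a →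
      d.Rel (lft Z z q₁ h₁ ≫ e) (smulH (P := Ptriv z) a (lft Z z q₂ h₂ ≫ e)) → a = γ Z q₁ q₂ h := by
    intro Z z q₁ q₂ h₁ h₂ h a hau hr
    subst h₁
    let l₁ := lft Z _ q₁ rfl
    let l₂ := lft Z (q₁ ≫ spv R S ≫ ιU) q₂ h₂
    haveI : IsIso (fib l₁) := hli _ _ _ _
    haveI : IsIso (fib l₂) := hli _ _ _ _
    haveI := isIso_fib_comp l₁ e
    haveI := isIso_fib_comp l₂ e
    exact smulH_injective (inv_Ptriv _) (l₂ ≫ e) (d.unique inferInstance (isIso_fib_smulH (l₂ ≫ e) hau)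
      (isIso_fib_smulH (l₂ ≫ e) (hγu Z q₁ q₂ h)) hr (hγr Z q₁ q₂ h) rfl)
  let D : Datum (spv R S) :=
    { γ := fun {Z} q₁ q₂ h => γ Z q₁ q₂ h
      natural := fun {Z' Z} c q₁ q₂ h => by
        let z := q₁ ≫ spv R S ≫ ιU
        have h₂ : q₂ ≫ spv R S ≫ ιU = z := by rw [← Category.assoc, ← h, Category.assoc]
        obtain ⟨cc, hcb, hcp, hci⟩ := exists_lift (trivProj z) (trivProj (c ≫ z)) c rfl
        haveI := hci inferInstance
        have hl : ∀ q hq hq', cc ≫ lft Z z q hq = lft Z' (c ≫ z) (c ≫ q) hq' := fun q hq hq' => by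
          haveI := hli Z z q hq
          refine cancel (trivProj (spv R S ≫ ιU)) ?_ ?_
          · show cc.base ≫ _ = _
            rw [hlb, hlb, hcb]
          · rw [Category.assoc, hlp, hlp, hcp]
        haveI := hli Z z q₁ rfl
        haveI := hli Z z q₂ h₂
        haveI := isIso_fib_comp (lft Z z q₁ rfl) e
        haveI := isIso_fib_comp (lft Z z q₂ h₂) e
        haveI := isIso_fib_smulH (lft Z z q₂ h₂ ≫ e) (hγu Z q₁ q₂ h)
        have hr := d.natural cc inferInstance inferInstance inferInstance (hγr Z q₁ q₂ h)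
        rw [comp_smulH (inv_Ptriv z), hcb, ← Category.assoc cc, ← Category.assoc cc,
          hl q₁ rfl (Category.assoc _ _ _), hl q₂ h₂ (by rw [Category.assoc, h₂])] at hr
        exact huniq Z' (c ≫ z) (c ≫ q₁) (c ≫ q₂) _ _ _ _ ((hγu Z q₁ q₂ h).map c.appTop.hom) hr
      refl := fun {Z} q => by
        haveI := hli Z (q ≫ spv R S ≫ ιU) q rfl
        refine (huniq Z _ q q rfl rfl rfl 1 isUnit_one ?_).symm
        rw [smulH_one]
        exact d.refl _ (isIso_fib_comp _ _)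
      trans := fun {Z} q₁ q₂ q₃ h h' => by
        let z := q₁ ≫ spv R S ≫ ιU
        have h₂ : q₂ ≫ spv R S ≫ ιU = z := by rw [← Category.assoc, ← h, Category.assoc]
        have h₃ : q₃ ≫ spv R S ≫ ιU = z := by rw [← Category.assoc, ← h', Category.assoc, h₂]
        refine (huniq Z z q₁ q₃ rfl h₃ (h.trans h') _ ((hγu Z q₁ q₂ h).mul (hγu Z q₂ q₃ h')) ?_).symm
        haveI := hli Z z q₁ rfl
        haveI := hli Z z q₂ h₂
        haveI := hli Z z q₃ h₃
        haveI := isIso_fib_comp (lft Z z q₁ rfl) e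
        haveI := isIso_fib_comp (lft Z z q₂ h₂) e
        haveI := isIso_fib_comp (lft Z z q₃ h₃) e
        haveI := isIso_fib_id (Ptriv z)
        haveI := isIso_fib_smulH (𝟙 (Ptriv z)) (hγu Z q₁ q₂ h)
        haveI := isIso_fib_smulH (lft Z z q₂ h₂ ≫ e) (hγu Z q₁ q₂ h)
        haveI := isIso_fib_smulH (lft Z z q₃ h₃ ≫ e) (hγu Z q₂ q₃ h')
        haveI := isIso_fib_smulH (lft Z z q₃ h₃ ≫ e) ((hγu Z q₁ q₂ h).mul (hγu Z q₂ q₃ h'))
        -- the relation for `q₂, q₃` over the same `z`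
        have h23 : d.Rel (lft Z z q₂ h₂ ≫ e) (smulH (P := Ptriv z) (γ Z q₂ q₃ h') (lft Z z q₃ h₃ ≫ e)) := by
          have key : ∀ z' (h₂' : q₂ ≫ spv R S ≫ ιU = z') (h₃' : q₃ ≫ spv R S ≫ ιU = z'),
              d.Rel (lft Z z' q₂ h₂' ≫ e) (smulH (P := Ptriv z') (γ Z q₂ q₃ h') (lft Z z' q₃ h₃' ≫ e)) := by
            rintro _ rfl h₃'
            exact hγr Z q₂ q₃ h'
          exact key z h₂ h₃
        have hr := d.natural (smulH (γ Z q₁ q₂ h) (𝟙 (Ptriv z))) inferInstance inferInstance inferInstance h23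
        rw [smulH_comp, smulH_comp, Category.id_comp, Category.id_comp, smulH_smulH, mul_comm] at hr
        exact d.trans inferInstance inferInstance inferInstance (hγr Z q₁ q₂ h) hr }
  obtain ⟨O₀, hxO, s, hsu, hs⟩ := exists_coboundary D x
  let O : X.Opens := ιU ''ᵁ O₀
  refine ⟨O, ⟨x, hxO, rfl⟩, ?_⟩
  -- invariance of the trivialisation on the chart
  have hinvV : ∀ {W : Pr.{u}} (c₁ c₂ : W ⟶ PV S ιU), IsIso (fib c₁) → IsIso (fib c₂) → d.Rel (c₁ ≫ e) (c₂ ≫ e) →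
      smulH (c₁.base.appTop s) (c₁ ≫ trivProj (spv R S ≫ ιU)) =
        smulH (c₂.base.appTop s) (c₂ ≫ trivProj (spv R S ≫ ιU)) := by
    intro W c₁ c₂ hc₁ hc₂ hr
    haveI := hc₁
    haveI := hc₂
    let C₀ := trivProj (spv R S ≫ ιU)
    haveI := isIso_fib_comp c₁ e
    haveI := isIso_fib_comp c₂ e
    haveI := isIso_fib_comp c₁ C₀
    haveI := isIso_fib_comp c₂ C₀
    have hq : c₁.base ≫ spv R S ≫ ιU = c₂.base ≫ spv R S ≫ ιU := by
      have h : (c₁.base ≫ e.base) ≫ w = (c₂.base ≫ e.base) ≫ w := d.base hr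
      rwa [Category.assoc, Category.assoc, he] at h
    have hq' : c₁.base ≫ spv R S = c₂.base ≫ spv R S := by
      rw [← cancel_mono ιU, Category.assoc, hq, Category.assoc]
    let z := c₁.base ≫ spv R S ≫ ιU
    obtain ⟨cc, hcb, hcp, hci⟩ := exists_lift (trivProj z) (c₁ ≫ C₀) (𝟙 W.base) (Category.id_comp _)
    haveI := hci inferInstance
    haveI := hli W.base z c₁.base rfl
    haveI := hli W.base z c₂.base hq.symm
    let l₂ := cc ≫ lft W.base z c₂.base hq.symm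
    have e₁ : cc ≫ lft W.base z c₁.base rfl = c₁ := by
      refine cancel C₀ ?_ ?_
      · show cc.base ≫ _ = _
        rw [hlb, hcb, Category.id_comp]
      · rw [Category.assoc, hlp, hcp]
    have hl₂b : l₂.base = c₂.base := by
      show cc.base ≫ _ = _
      rw [hlb, hcb, Category.id_comp]
    haveI : IsIso (fib l₂) := isIso_fib_comp _ _
    haveI := isIso_fib_comp l₂ e
    have hW : PicF.IsInvertible (mdl W) := inv_P' hP' (c₁ ≫ e)
    obtain ⟨β, hβ⟩ := exists_eq_smulH hW c₂ l₂ hl₂b.symm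
    haveI := isIso_fib_comp (lft W.base z c₁.base rfl) e
    haveI := isIso_fib_comp (lft W.base z c₂.base hq.symm) e
    haveI := isIso_fib_smulH (lft W.base z c₂.base hq.symm ≫ e) (hγu W.base c₁.base c₂.base hq')
    have hg := d.natural cc inferInstance inferInstance inferInstance (hγr W.base c₁.base c₂.base hq')
    rw [comp_smulH (inv_Ptriv z), ← Category.assoc cc, ← Category.assoc cc, e₁, hcb, Scheme.Hom.id_appTop] at hg
    haveI := isIso_fib_smulH (l₂ ≫ e) (hγu W.base c₁.base c₂.base hq')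
    have hr' : d.Rel (c₁ ≫ e) (smulH β (l₂ ≫ e)) := by rwa [← smulH_comp, ← hβ]
    haveI : IsIso (fib (smulH β (l₂ ≫ e))) := by rw [← smulH_comp, ← hβ]; infer_instance
    have hb : β = γ W.base c₁.base c₂.base hq' :=
      smulH_injective hW (l₂ ≫ e) (d.unique inferInstance inferInstance inferInstance hr' hg rfl)
    have e₂ : l₂ ≫ C₀ = c₁ ≫ C₀ := by rw [Category.assoc, hlp, hcp]
    rw [hβ, smulH_comp, e₂, smulH_smulH, smulH_base, hl₂b, hb]
    congr 1
    exact (hs W.base c₁.base c₂.base hq').symm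
  -- the frame, by descent from the chart
  let Qb := QO P' w O
  let fY := pullback.fst ((w ⁻¹ᵁ O).ι ≫ w) (spv R S ≫ ιU)
  let sY := pullback.snd ((w ⁻¹ᵁ O).ι ≫ w) (spv R S ≫ ιU)
  let Rr : Pr.{u} := ⟨pullback ((w ⁻¹ᵁ O).ι ≫ w) (spv R S ≫ ιU),
    (Scheme.Modules.pullback fY).obj (mdl Qb)⟩
  let r₁ : Rr ⟶ Qb := mkH fY (𝟙 _)
  haveI : IsIso (fib r₁) := inferInstanceAs (IsIso (𝟙 _))
  haveI : Flat r₁.base := inferInstanceAs (Flat (pullback.fst _ _))
  haveI : LocallyOfFinitePresentation r₁.base := inferInstanceAs (LocallyOfFinitePresentation (pullback.fst _ _))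
  haveI : Surjective r₁.base := ⟨fun y => by
    obtain ⟨x₀, -, hx₀⟩ : (w ((w ⁻¹ᵁ O).ι y)) ∈ ιU ''ᵁ O₀ := by
      have : (w ⁻¹ᵁ O).ι y ∈ Set.range (w ⁻¹ᵁ O).ι := ⟨y, rfl⟩
      rw [Scheme.Opens.range_ι] at this
      exact this
    obtain ⟨v₀, rfl⟩ := (spv R S).surjective x₀
    obtain ⟨t, ht, -⟩ := Scheme.Pullback.exists_preimage_pullback (f := (w ⁻¹ᵁ O).ι ≫ w) (g := spv R S ≫ ιU) y v₀
      (by rw [Scheme.Hom.comp_apply, Scheme.Hom.comp_apply]; exact hx₀.symm)
    exact ⟨t, ht⟩⟩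
  haveI := isIso_fib_comp r₁ (kO P' w O)
  obtain ⟨a', ha'b, ha'i, ha'⟩ := d.exists_rel (r₁ ≫ kO P' w O) (sY ≫ e.base) inferInstance (by
    show (fY ≫ (w ⁻¹ᵁ O).ι) ≫ w = (sY ≫ e.base) ≫ w
    rw [Category.assoc, Category.assoc, he]
    exact pullback.condition)
  obtain ⟨r₂, hr₂b, hr₂, hr₂i⟩ := exists_lift e a' sY ha'b.symm
  haveI := hr₂i ha'i
  rw [← hr₂] at ha'
  haveI := isIso_fib_comp r₂ e
  -- `s` is a unit there
  have hunit : IsUnit (sY.appTop s) := by
    refine isUnit_of_basicOpen_eq_top _ (eq_top_iff.2 fun t _ => ?_)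
    rw [← Scheme.preimage_basicOpen_top]
    refine hsu ?_
    show spv R S (sY t) ∈ O₀
    have h1 : w ((w ⁻¹ᵁ O).ι (fY t)) = ιU (spv R S (sY t)) := by
      rw [← Scheme.Hom.comp_apply, ← Scheme.Hom.comp_apply, ← Scheme.Hom.comp_apply, ← Scheme.Hom.comp_apply]
      exact congrArg (fun m : pullback ((w ⁻¹ᵁ O).ι ≫ w) (spv R S ≫ ιU) ⟶ X => m t) pullback.condition
    obtain ⟨x₀, hx₀, he₀⟩ : (w ((w ⁻¹ᵁ O).ι (fY t))) ∈ ιU ''ᵁ O₀ := by
      have : (w ⁻¹ᵁ O).ι (fY t) ∈ Set.range (w ⁻¹ᵁ O).ι := ⟨fY t, rfl⟩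
      rw [Scheme.Opens.range_ι] at this
      exact this
    rw [h1] at he₀
    rwa [← ιU.isOpenEmbedding.injective he₀]
  haveI := isIso_fib_comp r₂ (trivProj (spv R S ≫ ιU))
  let G₀ := smulH (P := Rr) (sY.appTop s) (r₂ ≫ trivProj (spv R S ≫ ιU))
  haveI : IsIso (fib G₀) := isIso_fib_smulH (r₂ ≫ trivProj (spv R S ≫ ιU)) hunit
  obtain ⟨G, hGb, hG, hGi⟩ := exists_lift (trivProj O.ι) G₀ (fY ≫ w ∣_ O) (by
    show (fY ≫ w ∣_ O) ≫ O.ι = r₂.base ≫ spv R S ≫ ιU
    rw [hr₂b, Category.assoc, morphismRestrict_ι]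
    exact pullback.condition)
  haveI := hGi inferInstance
  have hQ : PicF.IsInvertible (mdl Qb) := PicClLib.isInvertible_pullback _ hP'
  -- the relation between two lifts to `Rr`
  have hkey : ∀ {W : Pr.{u}} (a b : W ⟶ Rr), IsIso (fib a) → IsIso (fib b) →
      a.base ≫ fY ≫ w ∣_ O = b.base ≫ fY ≫ w ∣_ O → d.Rel (a ≫ r₁ ≫ kO P' w O) (b ≫ r₁ ≫ kO P' w O) →
      a ≫ G = b ≫ G := by
    intro W a b hai hbi hbase hr
    haveI := hai
    haveI := hbi
    haveI := isIso_fib_comp a r₂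
    haveI := isIso_fib_comp b r₂
    haveI := isIso_fib_comp a (r₁ ≫ kO P' w O)
    haveI := isIso_fib_comp b (r₁ ≫ kO P' w O)
    haveI := isIso_fib_comp a (r₂ ≫ e)
    haveI := isIso_fib_comp b (r₂ ≫ e)
    have h1 := d.trans inferInstance inferInstance inferInstance
      (d.symm inferInstance inferInstance (d.natural a inferInstance inferInstance inferInstance ha')) hr
    have h2 : d.Rel ((a ≫ r₂) ≫ e) ((b ≫ r₂) ≫ e) := by
      rw [Category.assoc, Category.assoc]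
      exact d.trans inferInstance inferInstance inferInstance h1 (d.natural b inferInstance inferInstance inferInstance ha')
    have h3 := hinvV (a ≫ r₂) (b ≫ r₂) inferInstance inferInstance h2
    refine cancel (trivProj O.ι) ?_ ?_
    · show a.base ≫ G.base = b.base ≫ G.base
      rw [hGb]; exact hbase
    · rw [Category.assoc, Category.assoc, hG]
      show a ≫ smulH _ _ = b ≫ smulH _ _
      rw [comp_smulH (PicClLib.isInvertible_pullback _ hQ), comp_smulH (PicClLib.isInvertible_pullback _ hQ),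
        ← Category.assoc, ← Category.assoc, ← appTop_comp_apply, ← appTop_comp_apply]
      simp only [comp_base', hr₂b] at h3
      exact h3
  obtain ⟨F, hFb, hFi, hF⟩ := exists_desc hQ (PicClLib.isInvertible_pullback _ hQ)
    (inv_Ptriv O.ι) r₁ G (w ∣_ O) hGb.symm fun W a b hai hbi hab => by
      haveI := hai
      haveI := hbi
      haveI := isIso_fib_comp a (r₁ ≫ kO P' w O)
      have hab' : a ≫ r₁ ≫ kO P' w O = b ≫ r₁ ≫ kO P' w O := by rw [← Category.assoc, hab, Category.assoc]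
      refine hkey a b hai hbi ?_ (hab' ▸ d.refl _ inferInstance)
      have hb0 : a.base ≫ fY = b.base ≫ fY := congrArg CoGrothendieck.Hom.base hab
      rw [reassoc_of% hb0]
  refine ⟨F, hFb, hFi, fun {W} c c' hc hc' hr => ?_⟩
  haveI := hc
  haveI := hc'
  haveI := hFi
  haveI := isIso_fib_comp c F
  haveI := isIso_fib_comp c' F
  haveI := isIso_fib_comp c (kO P' w O)
  haveI := isIso_fib_comp c' (kO P' w O)
  have hbw : c.base ≫ w ∣_ O = c'.base ≫ w ∣_ O := by
    have h : (c.base ≫ (w ⁻¹ᵁ O).ι) ≫ w = (c'.base ≫ (w ⁻¹ᵁ O).ι) ≫ w := d.base hr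
    rw [← cancel_mono O.ι, Category.assoc, Category.assoc, morphismRestrict_ι]
    simpa [Category.assoc] using h
  -- refine along the covering
  let Wc : Pr.{u} := ⟨pullback r₁.base c.base, (Scheme.Modules.pullback (pullback.snd r₁.base c.base)).obj (mdl W)⟩
  let q : Wc ⟶ W := mkH (pullback.snd r₁.base c.base) (𝟙 _)
  haveI : IsIso (fib q) := inferInstanceAs (IsIso (𝟙 _))
  haveI : Flat q.base := inferInstanceAs (Flat (pullback.snd _ _))
  haveI : Surjective q.base := inferInstanceAs (Surjective (pullback.snd _ _))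
  haveI : LocallyOfFinitePresentation q.base := inferInstanceAs (LocallyOfFinitePresentation (pullback.snd _ _))
  haveI := isIso_fib_comp q c
  haveI := isIso_fib_comp q c'
  obtain ⟨z₁, hz₁b, hz₁, hz₁i⟩ := exists_lift r₁ (q ≫ c) (pullback.fst r₁.base c.base) pullback.condition
  haveI := hz₁i inferInstance
  have hcond : (q.base ≫ c'.base) ≫ (w ⁻¹ᵁ O).ι ≫ w = (pullback.fst r₁.base c.base ≫ sY) ≫ spv R S ≫ ιU := by
    have h1 : c'.base ≫ (w ⁻¹ᵁ O).ι ≫ w = c.base ≫ (w ⁻¹ᵁ O).ι ≫ w := by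
      rw [← morphismRestrict_ι, reassoc_of% hbw]
    rw [Category.assoc, h1, Category.assoc,
      ← show ((w ⁻¹ᵁ O).ι ≫ w) = _ from rfl]
    show pullback.snd _ _ ≫ c.base ≫ _ = _
    rw [← reassoc_of% (pullback.condition : pullback.fst r₁.base c.base ≫ r₁.base = _)]
    exact congrArg (pullback.fst r₁.base c.base ≫ ·) pullback.condition
  obtain ⟨z₂, hz₂b, hz₂, hz₂i⟩ := exists_lift r₁ (q ≫ c')
    (pullback.lift (q.base ≫ c'.base) (pullback.fst r₁.base c.base ≫ sY) hcond) (pullback.lift_fst _ _ _)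
  haveI := hz₂i inferInstance
  have hW : PicF.IsInvertible (mdl W) := inv_P' hP' (c ≫ kO P' w O)
  refine eq_of_comp_eq hW (PicClLib.isInvertible_pullback _ hW) q ?_ ?_
  · show c'.base ≫ F.base = c.base ≫ F.base
    rw [hFb]; exact hbw.symm
  · rw [← Category.assoc, ← Category.assoc, ← hz₁, ← hz₂, Category.assoc, Category.assoc, hF]
    refine hkey z₁ z₂ inferInstance inferInstance ?_ ?_
    · have h1 : z₁.base ≫ fY = q.base ≫ c.base := congrArg CoGrothendieck.Hom.base hz₁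
      have h2 : z₂.base ≫ fY = q.base ≫ c'.base := congrArg CoGrothendieck.Hom.base hz₂
      rw [reassoc_of% h1, reassoc_of% h2, hbw]
    · rw [← Category.assoc, hz₁, ← Category.assoc, hz₂, Category.assoc, Category.assoc]
      exact d.natural q inferInstance inferInstance inferInstance hr

end Groth.Agent.LineDesc
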