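import Groth.Agent.LineDesc.RigSheaf
import Groth.Agent.RelTildeX.SheafCrit
import Mathlib.CategoryTheory.Limits.Shapes.ZeroMorphisms

/-!
# Invertible modules on a disjoint union
-/

set_option autoImplicit false
set_option backward.isDefEq.respectTransparency false
set_option backward.isDefEq.respectTransparency.types false
set_option linter.style.haveILetI false
set_option maxHeartbeats 1000000

universe u

open CategoryTheory CategoryTheory.Limits AlgebraicGeometry TopologicalSpace Pseudofunctor Opposite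

noncomputable section

namespace Groth.Agent.LineDesc

open ThetaLib
open scoped Groth.Agent.H23.PicMul

variable {P : Scheme.{u}} {I : Type u} {A : I → Scheme.{u}} (j : ∀ i, A i ⟶ P) [∀ i, IsOpenImmersion (j i)]
  (hcov : ∀ p : P, ∃ i, p ∈ (j i).opensRange)
  (hdisj : ∀ i k, i ≠ k → Disjoint (j i).opensRange (j k).opensRange)

include hdisj in
theorem isEmpty_of_ne {W : Scheme.{u}} {i k : I} (h : i ≠ k) (a : W ⟶ A i) (b : W ⟶ A k)
    (e : a ≫ j i = b ≫ j k) : IsEmpty W := ⟨fun w => by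
  have hw : j i (a w) = j k (b w) := congrArg (fun m : W ⟶ P => m w) e
  exact ((hdisj i k h).le_bot ⟨⟨a w, rfl⟩, ⟨b w, hw.symm⟩⟩).elim⟩

include hcov hdisj in
theorem cl_eq_of_disjoint {L M : P.Modules}
    (h : ∀ i, PicF.pullCl (j i) (PicF.cl L) = PicF.pullCl (j i) (PicF.cl M)) : PicF.cl L = PicF.cl M := by
  let PL : Pr.{u} := ⟨P, L⟩
  let R : Pr.{u} := ⟨P, M⟩
  let Pi : I → Pr.{u} := fun i => ⟨A i, (Scheme.Modules.pullback (j i)).obj L⟩
  let jj : ∀ i, Pi i ⟶ PL := fun i => mkH (j i) (𝟙 _)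
  haveI : ∀ i, IsIso (fib (jj i)) := fun i => inferInstanceAs (IsIso (𝟙 _))
  haveI : ∀ i, IsOpenImmersion (jj i).base := fun i => inferInstanceAs (IsOpenImmersion (j i))
  let φ := fun i => ((PicGrp.cl_eq_cl_iff _ _).1 (h i)).some
  let G : ∀ i, Pi i ⟶ R := fun i => mkH (j i) (φ i).hom
  haveI : ∀ i, IsIso (fib (G i)) := fun i => inferInstanceAs (IsIso (φ i).hom)
  obtain ⟨F, hFb, hFi, -⟩ := exists_glue_hom jj hcov G (𝟙 P) (fun i => Category.comp_id _)
    fun i k W a a' ha ha' e => by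
      haveI := ha
      haveI := ha'
      haveI := isIso_fib_comp a (G i)
      haveI := isIso_fib_comp a' (G k)
      by_cases hik : i = k
      · subst hik
        have hb : a.base = a'.base := (cancel_mono (j i)).1 (congrArg CoGrothendieck.Hom.base e)
        rw [cancel (jj i) hb e]
      · haveI : IsEmpty W.base := isEmpty_of_ne j hdisj hik a.base a'.base (congrArg CoGrothendieck.Hom.base e)
        let P₀ : PEmpty.{u + 1} → Pr.{u} := fun q => q.elim
        let j₀ : ∀ q, P₀ q ⟶ W := fun q => q.elim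
        haveI : ∀ q, IsOpenImmersion (j₀ q).base := fun q => q.elim
        haveI : ∀ q, IsIso (fib (j₀ q)) := fun q => q.elim
        exact eq_of_pl_cover j₀ (fun p => isEmptyElim p) (isInitialOfIsEmpty.hom_ext _ _) fun q => q.elim
  have key : ∀ (G : PL ⟶ R), G.base = 𝟙 _ → IsIso (fib G) → PicF.cl L = PicF.cl M := by
    rintro ⟨b, ψ⟩ rfl hψ
    let ψ' : L ⟶ (Scheme.Modules.pullback (𝟙 P)).obj M := ψ
    haveI : IsIso ψ' := hψ
    exact (PicGrp.cl_eq_cl_iff _ _).2 ⟨asIso ψ' ≪≫ (Scheme.Modules.pullbackId P).app _⟩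
  exact key F hFb hFi

include hdisj in
theorem isZero_restrict (i k : I) (h : i ≠ k) (L : (A k).Modules) :
    IsZero (((Scheme.Modules.pushforward (j k)).obj L).restrict (j i)) := by
  refine RelTildeX.isZero_of_locally _ fun x => ⟨⊤, trivial, fun V _ => ?_⟩
  have he : (j k) ⁻¹ᵁ ((j i) ''ᵁ V) = ⊥ := by
    refine eq_bot_iff.2 fun z hz => ?_
    exact ((hdisj i k h).le_bot ⟨(j i).image_le_opensRange V hz, z, rfl⟩).elim
  haveI : Subsingleton Γ(L, (j k) ⁻¹ᵁ ((j i) ''ᵁ V)) := by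
    rw [he]
    exact AddCommGrpCat.subsingleton_of_isZero (IsTerminal.isZero (TopCat.Sheaf.isTerminalOfEmpty ⟨L.presheaf, L.isSheaf⟩))
  exact this

include hcov hdisj in
theorem exists_invertible_of_disjoint (c : ∀ i, PicF.Cl (A i)) (hc : ∀ i, PicF.IsInvertibleCl (c i)) :
    ∃ M : P.Modules, PicF.IsInvertible M ∧ ∀ i, PicF.pullCl (j i) (PicF.cl M) = c i := by
  classical
  choose L hLc hL using hc
  let F : I → P.Modules := fun k => (Scheme.Modules.pushforward (j k)).obj (L k)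
  let M := ∏ᶜ F
  have hres : ∀ i, Nonempty (M.restrict (j i) ≅ L i) := fun i => by
    let G : I → (A i).Modules := fun k => (F k).restrict (j i)
    let d : ∀ k, G i ⟶ G k := fun k => if h : i = k then eqToHom (congrArg G h) else 0
    haveI : IsIso (Pi.π G i) := ⟨Pi.lift d, Pi.hom_ext _ _ fun k => by
      by_cases h : i = k
      · subst h; simp [d]
      · exact (isZero_restrict j hdisj i k h (L k)).eq_of_tgt _ _,
      by simp [d]⟩
    exact ⟨PreservesProduct.iso (Scheme.Modules.restrictFunctor (j i)) F ≪≫ asIso (Pi.π G i) ≪≫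
      asIso ((Scheme.Modules.restrictAdjunction (j i)).counit.app (L i))⟩
  have hpull : ∀ i, PicF.pullCl (j i) (PicF.cl M) = c i := fun i => by
    rw [← hLc i]
    exact (PicGrp.cl_eq_cl_iff _ _).2
      ⟨((Scheme.Modules.restrictFunctorIsoPullback (j i)).app M).symm ≪≫ (hres i).some⟩
  refine ⟨M, fun p => ?_, hpull⟩
  obtain ⟨i, a, rfl⟩ := hcov p
  obtain ⟨W, haW, hW⟩ := exists_open_trivial (hLc i ▸ ⟨L i, rfl, hL i⟩ : PicF.IsInvertibleCl (c i)) a
  let U := (j i) ''ᵁ W
  have hr : Set.range U.ι ⊆ Set.range (W.ι ≫ j i) := by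
    rw [Scheme.Opens.range_ι]
    rintro _ ⟨z, hz, rfl⟩
    exact ⟨⟨z, hz⟩, rfl⟩
  refine ⟨U, ⟨a, haW, rfl⟩, ?_⟩
  have h1 : PicF.pullCl U.ι (PicF.cl M) = 1 := by
    rw [← IsOpenImmersion.lift_fac (W.ι ≫ j i) U.ι hr, ← PicClLib.pullCl_comp, ← PicClLib.pullCl_comp, hpull, hW,
      H23.PicMul.pullCl_one]
  obtain ⟨e⟩ := (PicGrp.cl_eq_cl_iff _ _).1 h1
  exact ⟨(Scheme.Modules.restrictFunctorIsoPullback U.ι).app M ≪≫ e⟩

end Groth.Agent.LineDesc
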