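import Mathlib.RingTheory.Flat.Equalizer
import Mathlib.RingTheory.TensorProduct.Basic
import Mathlib.RingTheory.Ideal.Operations

/-!
# Multiplicative descent data on a flat algebra
-/

set_option autoImplicit false

universe u

open TensorProduct Algebra.TensorProduct

namespace Groth.Agent.LineDesc

variable {R S : Type u} [CommRing R] [CommRing S] [Algebra R S]

variable (R S) in
/-- The triple tensor product map `a ⊗ b ↦ 1 ⊗ (a ⊗ b)`. -/
noncomputable abbrev m23 : S ⊗[R] S →ₐ[R] S ⊗[R] (S ⊗[R] S) := includeRight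

variable (R S) in
/-- The triple tensor product map `a ⊗ b ↦ a ⊗ (b ⊗ 1)`. -/
noncomputable abbrev m12 : S ⊗[R] S →ₐ[R] S ⊗[R] (S ⊗[R] S) :=
  Algebra.TensorProduct.map (AlgHom.id R S) includeLeft

variable (R S) in
/-- The triple tensor product map `a ⊗ b ↦ a ⊗ (1 ⊗ b)`. -/
noncomputable abbrev m13 : S ⊗[R] S →ₐ[R] S ⊗[R] (S ⊗[R] S) :=
  Algebra.TensorProduct.map (AlgHom.id R S) includeRight

/-- The invariant elements of a multiplicative datum. -/
def invSet (g : S ⊗[R] S) : Set S := {s | g * (s ⊗ₜ[R] 1) = 1 ⊗ₜ[R] s}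

/-- Hilbert 90: the invariant elements generate the unit ideal. -/
theorem span_invSet [Module.Flat R S] (g : S ⊗[R] S) (h1 : Algebra.TensorProduct.lmul' R g = 1)
    (h3 : m23 R S g * m12 R S g = m13 R S g) : Ideal.span (invSet g) = ⊤ := by
  let φ : S →ₗ[R] S ⊗[R] S :=
    (LinearMap.mulLeft R g).comp (includeLeft : S →ₐ[R] S ⊗[R] S).toLinearMap -
      (includeRight : S →ₐ[R] S ⊗[R] S).toLinearMap
  have hφ : ∀ s, φ s = g * (s ⊗ₜ[R] 1) - 1 ⊗ₜ[R] s := fun s => rfl
  have key : ∀ y : S ⊗[R] S, LinearMap.lTensor S φ y = m23 R S g * m12 R S y - m13 R S y := fun y => by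
    induction y using TensorProduct.induction_on with
    | zero => simp
    | tmul a b =>
      rw [LinearMap.lTensor_tmul, hφ, TensorProduct.tmul_sub]
      simp [m12, m13, m23]
    | add x y hx hy => rw [map_add, hx, hy, map_add, map_add]; ring
  have hg : g ∈ LinearMap.ker (AlgebraTensorModule.lTensor S S φ) := by
    rw [LinearMap.mem_ker]
    exact (key g).trans (sub_eq_zero.2 h3)
  rw [Module.Flat.ker_lTensor_eq (R := R) (S := S) (M := S)] at hg
  obtain ⟨z, hz⟩ := hg
  suffices h : Algebra.TensorProduct.lmul' R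
      (AlgebraTensorModule.lTensor S S (LinearMap.ker φ).subtype z) ∈ Ideal.span (invSet g) by
    rw [hz, h1] at h
    exact (Ideal.eq_top_iff_one _).2 h
  clear hz
  induction z using TensorProduct.induction_on with
  | zero => simp
  | tmul a m =>
    have hm : (m : S) ∈ invSet g := by
      have := LinearMap.mem_ker.1 m.2
      rw [hφ, sub_eq_zero] at this
      exact this
    simpa using Ideal.mul_mem_left _ a (Ideal.subset_span hm)
  | add x y hx hy => simpa [map_add] using Ideal.add_mem _ hx hy

end Groth.Agent.LineDesc
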