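import Groth.Agent.LineDesc.Chart
import Groth.Agent.ThetaLib.Lifts

/-!
# Invariant frames exist locally
-/

set_option autoImplicit false
set_option backward.isDefEq.respectTransparency false
set_option backward.isDefEq.respectTransparency.types false
set_option linter.style.haveILetI false
set_option maxHeartbeats 1000000

universe u

open CategoryTheory CategoryTheory.Limits AlgebraicGeometry TopologicalSpace Pseudofunctor

noncomputable section

namespace Groth.Agent.LineDesc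

open ThetaLib
open scoped Groth.Agent.H23.PicMul

variable {X : Scheme.{u}} {P' : Pr.{u}} {w : P'.base ⟶ X} [Flat w] [Surjective w] [LocallyOfFinitePresentation w]

theorem exists_chart (hP' : PicF.IsInvertible (mdl P')) (x : X) :
    ∃ (U : X.Opens) (hU : IsAffineOpen U) (_ : x ∈ U) (S : CommRingCat.{u}) (φ : Γ(X, U) ⟶ S),
      Flat (Spec.map φ) ∧ Surjective (Spec.map φ) ∧ LocallyOfFinitePresentation (Spec.map φ) ∧
      ∃ e : Ptriv (Spec.map φ ≫ hU.fromSpec) ⟶ P', ∃ _ : IsIso (fib e), e.base ≫ w = Spec.map φ ≫ hU.fromSpec := by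
  obtain ⟨U, hU, hx, -⟩ := exists_isAffineOpen_mem_and_subset (x := x) (U := ⊤) trivial
  refine ⟨U, hU, hx, ?_⟩
  -- small affine opens upstairs
  have hloc : ∀ y : P'.base, w y ∈ U → ∃ V : P'.base.Opens, y ∈ V ∧ IsAffineOpen V ∧ V ≤ w ⁻¹ᵁ U ∧
      PicF.pullCl V.ι (PicF.cl (mdl P')) = 1 := fun y hy => by
    obtain ⟨V₁, h₁, e₁⟩ := exists_open_trivial ⟨mdl P', rfl, hP'⟩ y
    obtain ⟨V, hV, hyV, hle⟩ := exists_isAffineOpen_mem_and_subset (x := y) (U := V₁ ⊓ w ⁻¹ᵁ U) ⟨h₁, hy⟩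
    refine ⟨V, hyV, hV, fun z hz => (hle hz).2, ?_⟩
    have h := congrArg (PicF.pullCl (P'.base.homOfLE (fun z hz => (hle hz).1 : V ≤ V₁))) e₁
    rwa [PicClLib.pullCl_comp, Scheme.homOfLE_ι, H23.PicMul.pullCl_one] at h
  choose V hyV hVaff hVU hVcl using hloc
  obtain ⟨t, ht⟩ := hU.isCompact.elim_finite_subcover
    (fun p : {y : P'.base // w y ∈ U} => (w '' (V p.1 p.2 : Set P'.base)))
    (fun p => w.isOpenMap _ (V p.1 p.2).2) (fun z hz => by
      obtain ⟨y, rfl⟩ := w.surjective z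
      exact Set.mem_iUnion.2 ⟨⟨y, hz⟩, y, hyV _ _, rfl⟩)
  let Y : t → Scheme.{u} := fun i => (V i.1.1 i.1.2).toScheme
  haveI : ∀ i, IsAffine (Y i) := fun i => hVaff i.1.1 i.1.2
  have hr : ∀ i : t, Set.range ((V i.1.1 i.1.2).ι ≫ w) ⊆ Set.range hU.fromSpec := fun i => by
    rintro _ ⟨z, rfl⟩
    rw [hU.range_fromSpec]
    exact hVU i.1.1 i.1.2 z.2
  let g : ∀ i, Y i ⟶ Spec Γ(X, U) := fun i => IsOpenImmersion.lift hU.fromSpec ((V i.1.1 i.1.2).ι ≫ w) (hr i)
  have hg : ∀ i, g i ≫ hU.fromSpec = (V i.1.1 i.1.2).ι ≫ w := fun i => IsOpenImmersion.lift_fac _ _ _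
  let V₀ : Scheme.{u} := ∐ Y
  let eI : V₀ ≅ Spec Γ(V₀, ⊤) := V₀.isoSpec
  let v₁ : Spec Γ(V₀, ⊤) ⟶ Spec Γ(X, U) := eI.inv ≫ Sigma.desc g
  refine ⟨Γ(V₀, ⊤), Spec.preimage v₁, ?_⟩
  rw [Spec.map_preimage]
  haveI : ∀ i, Flat (g i) := fun i => MorphismProperty.of_postcomp (W' := @IsOpenImmersion) @Flat (g i) hU.fromSpec
    inferInstance (by rw [hg]; infer_instance)
  haveI : ∀ i, LocallyOfFinitePresentation (g i) := fun i =>
    MorphismProperty.of_postcomp (W' := @IsOpenImmersion) @LocallyOfFinitePresentation (g i) hU.fromSpec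
      inferInstance (by rw [hg]; infer_instance)
  haveI : Flat (Sigma.desc g) := IsZariskiLocalAtSource.sigmaDesc (P := @Flat) fun i => ‹∀ i, Flat (g i)› i
  haveI : LocallyOfFinitePresentation (Sigma.desc g) :=
    IsZariskiLocalAtSource.sigmaDesc (P := @LocallyOfFinitePresentation) fun i => ‹∀ i, LocallyOfFinitePresentation (g i)› i
  haveI : Surjective v₁ := ⟨fun p => by
    have hp : hU.fromSpec p ∈ U := by
      have : hU.fromSpec p ∈ Set.range hU.fromSpec := ⟨p, rfl⟩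
      rwa [hU.range_fromSpec] at this
    obtain ⟨j, hj⟩ := Set.mem_iUnion.1 (ht hp)
    obtain ⟨hjt, z, hz, hzw⟩ := Set.mem_iUnion.1 hj
    let i : t := ⟨j, hjt⟩
    refine ⟨eI.hom (Sigma.ι Y i ⟨z, hz⟩), hU.fromSpec.isOpenEmbedding.injective ?_⟩
    rw [← hzw, ← Scheme.Hom.comp_apply, ← Scheme.Hom.comp_apply, ← Scheme.Hom.comp_apply]
    show (Sigma.ι Y i ≫ eI.hom ≫ (eI.inv ≫ Sigma.desc g) ≫ hU.fromSpec) ⟨z, hz⟩ = _
    rw [Category.assoc, Iso.hom_inv_id_assoc, colimit.ι_desc_assoc]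
    exact congrArg (fun m : (V j.1 j.2).toScheme ⟶ X => m ⟨z, hz⟩) (hg i)⟩
  refine ⟨inferInstanceAs (Flat (eI.inv ≫ Sigma.desc g)), inferInstance,
    inferInstanceAs (LocallyOfFinitePresentation (eI.inv ≫ Sigma.desc g)), ?_⟩
  -- the trivialisation, piece by piece
  let ρ : ∀ i, Y i ⟶ Spec Γ(V₀, ⊤) := fun i => Sigma.ι Y i ≫ eI.hom
  let Pi : t → Pr.{u} := fun i => ⟨Y i, (Scheme.Modules.pullback (ρ i)).obj (mdl (Ptriv (v₁ ≫ hU.fromSpec)))⟩
  let jj : ∀ i, Pi i ⟶ Ptriv (v₁ ≫ hU.fromSpec) := fun i => mkH (ρ i) (𝟙 _)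
  haveI : ∀ i, IsIso (fib (jj i)) := fun i => inferInstanceAs (IsIso (𝟙 _))
  haveI : ∀ i, IsOpenImmersion (jj i).base := fun i => inferInstanceAs (IsOpenImmersion (Sigma.ι Y i ≫ eI.hom))
  have hiso : ∀ i, Nonempty (mdl (Pi i) ≅ (Scheme.Modules.pullback (V i.1.1 i.1.2).ι).obj (mdl P')) := fun i => by
    refine (PicGrp.cl_eq_cl_iff _ _).1 ?_
    show PicF.pullCl (ρ i) (PicF.pullCl (v₁ ≫ hU.fromSpec) (PicF.cl (Coh.structureModule X))) =
      PicF.pullCl (V i.1.1 i.1.2).ι (PicF.cl (mdl P'))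
    rw [hVcl i.1.1 i.1.2, ← H23.PicMul.one_def, H23.PicMul.pullCl_one, H23.PicMul.pullCl_one]
  let ψ := fun i => (hiso i).some
  let G : ∀ i, Pi i ⟶ P' := fun i => mkH (V i.1.1 i.1.2).ι (ψ i).hom
  haveI : ∀ i, IsIso (fib (G i)) := fun i => inferInstanceAs (IsIso (ψ i).hom)
  let b : Spec Γ(V₀, ⊤) ⟶ P'.base := eI.inv ≫ Sigma.desc (fun i => (V i.1.1 i.1.2).ι)
  obtain ⟨e, heb, hei, -⟩ := exists_glue_hom jj (fun p => by
      obtain ⟨⟨i, z⟩, hz⟩ := (sigmaMk Y).surjective (eI.inv p)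
      rw [sigmaMk_mk] at hz
      exact ⟨i, z, by
        show eI.hom (Sigma.ι Y i z) = p
        erw [hz]
        rw [← Scheme.Hom.comp_apply, Iso.inv_hom_id]
        rfl⟩)
    G b (fun i => by
      show (Sigma.ι Y i ≫ eI.hom) ≫ eI.inv ≫ Sigma.desc _ = _
      rw [Category.assoc, Iso.hom_inv_id_assoc, colimit.ι_desc]
      rfl)
    fun i k W a a' ha ha' h => by
      haveI := ha
      haveI := ha'
      haveI := isIso_fib_comp a (G i)
      haveI := isIso_fib_comp a' (G k)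
      by_cases hik : i = k
      · subst hik
        have hb : a.base = a'.base := (cancel_mono (ρ i)).1 (congrArg CoGrothendieck.Hom.base h)
        rw [cancel (jj i) hb h]
      · -- the source is empty
        haveI : IsEmpty W.base := ⟨fun p => by
          have hp : eI.hom (Sigma.ι Y i (a.base p)) = eI.hom (Sigma.ι Y k (a'.base p)) := by
            have := congrArg (fun m : W.base ⟶ Spec Γ(V₀, ⊤) => m p) (congrArg CoGrothendieck.Hom.base h)
            exact this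
          have hd := eI.hom.isOpenEmbedding.injective hp
          exact hik ((disjoint_opensRange_sigmaι Y i k hik).le_bot ⟨⟨a.base p, rfl⟩, ⟨a'.base p, hd.symm⟩⟩).elim⟩
        let P₀ : PEmpty.{u + 1} → Pr.{u} := fun q => q.elim
        let j₀ : ∀ q, P₀ q ⟶ W := fun q => q.elim
        haveI : ∀ q, IsOpenImmersion (j₀ q).base := fun q => q.elim
        haveI : ∀ q, IsIso (fib (j₀ q)) := fun q => q.elim
        exact eq_of_pl_cover j₀ (fun p => isEmptyElim p) (isInitialOfIsEmpty.hom_ext _ _) fun q => q.elim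
  refine ⟨e, hei, ?_⟩
  rw [heb]
  show (eI.inv ≫ Sigma.desc _) ≫ w = (eI.inv ≫ Sigma.desc g) ≫ hU.fromSpec
  rw [Category.assoc, Category.assoc]
  congr 1
  refine colimit.hom_ext fun ⟨i⟩ => ?_
  rw [colimit.ι_desc_assoc, colimit.ι_desc_assoc]
  exact (hg i).symm

theorem exists_frame (d : LDatum P' w) (hP' : PicF.IsInvertible (mdl P')) (x : X) :
    ∃ O : X.Opens, x ∈ O ∧ ∃ F, IsFrameHom d O F := by
  obtain ⟨U, hU, hx, S, φ, hfl, hsu, hfp, e, hei, he⟩ := exists_chart (w := w) hP' x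
  letI : Algebra Γ(X, U) S := φ.hom.toAlgebra
  haveI := hei
  haveI : Flat (spv Γ(X, U) S) := hfl
  haveI : Surjective (spv Γ(X, U) S) := hsu
  haveI : LocallyOfFinitePresentation (spv Γ(X, U) S) := hfp
  obtain ⟨p, rfl⟩ : x ∈ Set.range hU.fromSpec := by rw [hU.range_fromSpec]; exact hx
  exact exists_frame_of_chart (R := Γ(X, U)) (S := S) d hP' e he p

end Groth.Agent.LineDesc
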