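import Groth.Agent.LineDesc.Descend
import Groth.Prelude.Def_Pic

/-!
# Invertible modules trivialised by an fppf covering of the base
-/

set_option autoImplicit false
set_option backward.isDefEq.respectTransparency false
set_option backward.isDefEq.respectTransparency.types false
set_option linter.style.haveILetI false
set_option maxHeartbeats 1000000

universe u

open CategoryTheory CategoryTheory.Limits AlgebraicGeometry TopologicalSpace Pseudofunctor

noncomputable section

namespace Groth.Agent.LineDesc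

open ThetaLib

variable {X S S' : Scheme.{u}} (f : X ⟶ S) (h : S' ⟶ S)

/-- The trivial pair upstairs. -/
abbrev upPr : Pr.{u} := ⟨pullback f h, (Scheme.Modules.pullback (pullback.snd f h)).obj (Coh.structureModule S')⟩

/-- Its projection. -/
abbrev upProj : upPr f h ⟶ P0 S' := mkH (pullback.snd f h) (𝟙 _)

instance : IsIso (fib (upProj f h)) := inferInstanceAs (IsIso (𝟙 _))

variable {f h} {L : X.Modules} (e : upPr f h ⟶ (⟨X, L⟩ : Pr.{u}))

/-- Two maps to the trivial pair downstairs are identified by the trivialisation. -/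
def TrivRel {W : Pr.{u}} (a a' : W ⟶ P0 S') : Prop :=
  a.base ≫ h = a'.base ≫ h ∧ ∀ (V : Pr.{u}) (p : V ⟶ W) (b b' : V ⟶ upPr f h), IsIso (fib p) → IsIso (fib b) →
    IsIso (fib b') → b ≫ upProj f h = p ≫ a → b' ≫ upProj f h = p ≫ a' →
    b.base ≫ pullback.fst f h = b'.base ≫ pullback.fst f h → b ≫ e = b' ≫ e

variable [IsIso (fib e)] (he : e.base = pullback.fst f h)

variable (ha : ∀ (Z : Scheme.{u}) (z : Z ⟶ S), Function.Bijective (pullback.snd f z).appTop)

/-- The pullback of a pair along `f`. -/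
abbrev overPr {W : Pr.{u}} (z : W.base ⟶ S) : Pr.{u} :=
  ⟨pullback f z, (Scheme.Modules.pullback (pullback.snd f z)).obj (mdl W)⟩

/-- Its projection. -/
abbrev overProj {W : Pr.{u}} (z : W.base ⟶ S) : overPr (f := f) z ⟶ W := mkH (pullback.snd f z) (𝟙 _)

instance {W : Pr.{u}} (z : W.base ⟶ S) : IsIso (fib (overProj (W := W) (f := f) z)) := inferInstanceAs (IsIso (𝟙 _))

omit [IsIso (fib e)] in
theorem exists_upLift {W : Pr.{u}} (a : W ⟶ P0 S') (ha' : IsIso (fib a)) (z : W.base ⟶ S) (hz : a.base ≫ h = z) :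
    ∃ b : overPr (f := f) z ⟶ upPr f h, b.base ≫ pullback.fst f h = pullback.fst f z ∧
      b ≫ upProj f h = overProj z ≫ a ∧ IsIso (fib b) := by
  haveI := ha'
  haveI := isIso_fib_comp (overProj (W := W) (f := f) z) a
  obtain ⟨b, hb1, hb2, hb3⟩ := exists_lift (upProj f h) (overProj z ≫ a)
    (pullback.lift (pullback.fst f z) (pullback.snd f z ≫ a.base) (by rw [Category.assoc, hz, pullback.condition]))
    (pullback.lift_snd _ _ _)
  exact ⟨b, by rw [hb1, pullback.lift_fst], hb2, hb3 inferInstance⟩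

include he in
theorem trivRel_of {W : Pr.{u}} (a a' : W ⟶ P0 S') (z : W.base ⟶ S) (hz : a.base ≫ h = z) (hz' : a'.base ≫ h = z)
    (B B' : overPr (f := f) z ⟶ upPr f h) [IsIso (fib B)] [IsIso (fib B')]
    (hB : B.base ≫ pullback.fst f h = pullback.fst f z) (hB' : B'.base ≫ pullback.fst f h = pullback.fst f z)
    (hBp : B ≫ upProj f h = overProj z ≫ a) (hBp' : B' ≫ upProj f h = overProj z ≫ a') (hBe : B ≫ e = B' ≫ e) :
    TrivRel e a a' := by
  refine ⟨hz.trans hz'.symm, fun V p b b' hp hb hb' h1 h2 h3 => ?_⟩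
  haveI := hp
  have hb0 : b.base ≫ pullback.snd f h = p.base ≫ a.base := congrArg CoGrothendieck.Hom.base h1
  have hb0' : b'.base ≫ pullback.snd f h = p.base ≫ a'.base := congrArg CoGrothendieck.Hom.base h2
  obtain ⟨r, hr1, hr2, hr3⟩ := exists_lift (overProj (W := W) (f := f) z) p
    (pullback.lift (b.base ≫ pullback.fst f h) p.base (by
      rw [Category.assoc, pullback.condition, ← Category.assoc, hb0, Category.assoc, hz]))
    (pullback.lift_snd _ _ _)
  have hBb : B.base ≫ pullback.snd f h = pullback.snd f z ≫ a.base := congrArg CoGrothendieck.Hom.base hBp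
  have hBb' : B'.base ≫ pullback.snd f h = pullback.snd f z ≫ a'.base := congrArg CoGrothendieck.Hom.base hBp'
  have e₁ : r ≫ B = b := by
    refine cancel (upProj f h) ?_ (by rw [Category.assoc, hBp, reassoc_of% hr2, h1])
    show r.base ≫ B.base = b.base
    refine pullback.hom_ext ?_ ?_
    · rw [Category.assoc, hB, hr1, pullback.lift_fst]
    · rw [Category.assoc, hBb, hr1, pullback.lift_snd_assoc, hb0]
  have e₂ : r ≫ B' = b' := by
    refine cancel (upProj f h) ?_ (by rw [Category.assoc, hBp', reassoc_of% hr2, h2])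
    show r.base ≫ B'.base = b'.base
    refine pullback.hom_ext ?_ ?_
    · rw [Category.assoc, hB', hr1, pullback.lift_fst, h3]
    · rw [Category.assoc, hBb', hr1, pullback.lift_snd_assoc, hb0']
  rw [← e₁, ← e₂, Category.assoc, hBe, Category.assoc]

/-- The descent datum of a trivialisation. -/
def trivDatum : LDatum (P0 S') h where
  Rel := TrivRel e
  base {W a a'} hr := hr.1
  refl {W} a _ := ⟨rfl, fun V p b b' _ _ _ h1 h2 h3 => by
    have hb : b.base = b'.base := by
      refine pullback.hom_ext h3 ?_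
      exact (congrArg CoGrothendieck.Hom.base h1).trans (congrArg CoGrothendieck.Hom.base h2).symm
    rw [cancel (upProj f h) hb (h1.trans h2.symm)]⟩
  symm {W a a'} _ _ hr := ⟨hr.1.symm, fun V p b b' hp hb hb' h1 h2 h3 => (hr.2 V p b' b hp hb' hb h2 h1 h3.symm).symm⟩
  trans {W a a' a''} _ ha' _ hr hr' := ⟨hr.1.trans hr'.1, fun V p b b'' hp hb hb'' h1 h2 h3 => by
    haveI := hp
    haveI : IsIso (fib a') := ha'
    haveI := isIso_fib_comp p a'
    have hb0 : b.base ≫ pullback.snd f h = p.base ≫ a.base := congrArg CoGrothendieck.Hom.base h1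
    obtain ⟨b', hb1, hb2, hb3⟩ := exists_lift (upProj f h) (p ≫ a')
      (pullback.lift (b.base ≫ pullback.fst f h) (p.base ≫ a'.base) (by
        rw [Category.assoc, Category.assoc, pullback.condition, ← Category.assoc, hb0, Category.assoc, hr.1]))
      (pullback.lift_snd _ _ _)
    have hb' : b'.base ≫ pullback.fst f h = b.base ≫ pullback.fst f h := by rw [hb1, pullback.lift_fst]
    exact (hr.2 V p b b' hp hb (hb3 inferInstance) h1 hb2 hb'.symm).trans
      (hr'.2 V p b' b'' hp (hb3 inferInstance) hb'' hb2 h2 (hb'.trans h3))⟩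
  natural {W' W} c {a a'} hc _ _ hr := ⟨by
      show (c.base ≫ a.base) ≫ h = (c.base ≫ a'.base) ≫ h
      rw [Category.assoc, hr.1, Category.assoc], fun V p b b' hp hb hb' h1 h2 h3 => by
    haveI := hp
    haveI := hc
    exact hr.2 V (p ≫ c) b b' (isIso_fib_comp _ _) hb hb' (by rw [h1, Category.assoc]) (by rw [h2, Category.assoc]) h3⟩
  exists_rel {W} a t hai ht := by
    haveI := hai
    let z := a.base ≫ h
    obtain ⟨a₀, ha₀b, ha₀i⟩ : ∃ a₀ : W ⟶ P0 S', a₀.base = t ∧ IsIso (fib a₀) := by
      have hiso : PicF.cl (mdl W) = PicF.pullCl t (PicF.cl (Coh.structureModule S')) := by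
        have h1 := (PicGrp.cl_eq_cl_iff _ _).2 ⟨asIso (fib a)⟩
        refine h1.trans ?_
        exact (H23.PicMul.pullCl_one a.base).trans (H23.PicMul.pullCl_one t).symm
      obtain ⟨i⟩ := (PicGrp.cl_eq_cl_iff _ _).1 hiso
      exact ⟨mkH t i.hom, rfl, inferInstanceAs (IsIso i.hom)⟩
    haveI := ha₀i
    obtain ⟨B, hB, hBp, hBi⟩ := exists_upLift a hai z rfl
    obtain ⟨B₀, hB₀, hB₀p, hB₀i⟩ := exists_upLift a₀ ha₀i z (by rw [ha₀b, ← ht])
    haveI := hBi
    haveI := hB₀i
    haveI := isIso_fib_comp B e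
    haveI := isIso_fib_comp B₀ e
    have hW : PicF.IsInvertible (mdl W) := H23.PicMul.isInvertible_of_iso (asIso (fib a)).symm
      (PicClLib.isInvertible_pullback _ (PicLoc.isInvertible_structureModule S'))
    have hW' : PicF.IsInvertible (mdl (overPr (W := W) (f := f) z)) := PicClLib.isInvertible_pullback _ hW
    obtain ⟨γ, hγ⟩ := exists_eq_smulH hW' (B ≫ e) (B₀ ≫ e) (by
      show B.base ≫ e.base = B₀.base ≫ e.base
      rw [he, hB, hB₀])
    haveI : IsIso (fib (smulH γ (B₀ ≫ e))) := hγ ▸ inferInstance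
    have hγu := isUnit_of_isIso_fib hW' (B₀ ≫ e) (a := γ)
    obtain ⟨c, rfl⟩ := (ha _ z).2 γ
    have hcu : IsUnit c := by
      obtain ⟨d, hd⟩ := hγu.exists_right_inv
      obtain ⟨d', rfl⟩ := (ha _ z).2 d
      rw [← map_mul, ← map_one (pullback.snd f z).appTop.hom] at hd
      exact IsUnit.of_mul_eq_one d' ((ha _ z).1 hd)
    haveI := isIso_fib_smulH a₀ hcu
    haveI := isIso_fib_smulH (P := overPr (W := W) (f := f) z) B₀ (hcu.map (pullback.snd f z).appTop.hom)
    refine ⟨smulH c a₀, ha₀b, inferInstance, trivRel_of e he a (smulH c a₀) z rfl (by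
      show a₀.base ≫ h = _; rw [ha₀b, ← ht]) B (smulH (P := overPr (W := W) (f := f) z) ((pullback.snd f z).appTop c) B₀)
      hB hB₀ hBp ?_ ?_⟩
    · rw [smulH_comp, hB₀p, comp_smulH hW]
    · rw [smulH_comp, hγ]
  unique {W a a' a''} hai ha'i ha''i hr hr' hb := by
    haveI := hai
    haveI := ha'i
    let z := a.base ≫ h
    obtain ⟨B, hB, hBp, hBi⟩ := exists_upLift a hai z rfl
    obtain ⟨B', hB', hBp', hBi'⟩ := exists_upLift a' ha'i z hr.1.symm
    haveI := hBi
    haveI := hBi'
    have hW : PicF.IsInvertible (mdl W) := H23.PicMul.isInvertible_of_iso (asIso (fib a)).symm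
      (PicClLib.isInvertible_pullback _ (PicLoc.isInvertible_structureModule S'))
    obtain ⟨c, rfl⟩ := exists_eq_smulH hW a'' a' hb.symm
    haveI := ha''i
    have hcu : IsUnit c := isUnit_of_isIso_fib hW a'
    haveI := isIso_fib_smulH (P := overPr (W := W) (f := f) z) B' (hcu.map (pullback.snd f z).appTop.hom)
    have h1 := hr.2 _ (overProj (W := W) (f := f) z) B B' inferInstance hBi hBi' hBp hBp' (hB.trans hB'.symm)
    have h2 := hr'.2 _ (overProj (W := W) (f := f) z) B (smulH (P := overPr (W := W) (f := f) z) ((pullback.snd f z).appTop c) B') inferInstance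
      hBi inferInstance hBp (by rw [smulH_comp, hBp', comp_smulH hW]) (hB.trans hB'.symm)
    haveI := isIso_fib_comp B' e
    rw [smulH_comp, h1] at h2
    have h3 : (pullback.snd f z).appTop c = 1 :=
      smulH_injective (PicClLib.isInvertible_pullback _ hW) (B' ≫ e) (h2.symm.trans (smulH_one _).symm)
    rw [← map_one (pullback.snd f z).appTop.hom] at h3
    rw [(ha _ z).1 h3, smulH_one]

include he ha in
/-- A module trivialised by an fppf covering of the base comes from the base. -/
theorem exists_of_triv (hL : PicF.IsInvertible L) [Flat h] [Surjective h] [LocallyOfFinitePresentation h] :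
    ∃ N : S.Modules, PicF.IsInvertible N ∧ PicF.cl L = PicF.cl ((Scheme.Modules.pullback f).obj N) := by
  let d := trivDatum e he ha
  obtain ⟨N, hN, C, hCb, hCi, hC⟩ := exists_descent d (PicLoc.isInvertible_structureModule S')
  refine ⟨N, hN, ?_⟩
  haveI := hCi
  haveI := isIso_fib_comp (upProj f h) C
  haveI : Flat e.base := by rw [he]; infer_instance
  haveI : Surjective e.base := by rw [he]; infer_instance
  haveI : LocallyOfFinitePresentation e.base := by rw [he]; infer_instance
  have hup : PicF.IsInvertible (mdl (upPr f h)) := PicClLib.isInvertible_pullback _ (PicLoc.isInvertible_structureModule S')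
  obtain ⟨F, hFb, hFi, -⟩ := exists_desc (P := (⟨X, L⟩ : Pr.{u})) (P' := upPr f h) (R := (⟨S, N⟩ : Pr.{u}))
    hL hup hN e (upProj f h ≫ C) f
    (by show e.base ≫ f = pullback.snd f h ≫ C.base; rw [he, hCb, pullback.condition]) fun W a a' hai hai' heq => by
      haveI := hai
      haveI := hai'
      haveI := isIso_fib_comp a (upProj f h)
      haveI := isIso_fib_comp a' (upProj f h)
      have hb : a.base ≫ pullback.fst f h = a'.base ≫ pullback.fst f h := by
        have h0 : a.base ≫ e.base = a'.base ≫ e.base := congrArg CoGrothendieck.Hom.base heq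
        rwa [he] at h0
      obtain ⟨a'', hb'', hi'', hr⟩ := d.exists_rel (a ≫ upProj f h) (a'.base ≫ pullback.snd f h) inferInstance (by
        show (a.base ≫ pullback.snd f h) ≫ h = (a'.base ≫ pullback.snd f h) ≫ h
        rw [Category.assoc, Category.assoc, ← pullback.condition, ← Category.assoc, hb, Category.assoc])
      obtain ⟨z, hzb, hz, hzi⟩ := exists_lift (upProj f h) a'' a'.base hb''.symm
      haveI := hzi hi''
      have h1 := hr.2 W (𝟙 W) a z (isIso_fib_id W) hai inferInstance (Category.id_comp _).symm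
        (by rw [hz, Category.id_comp]) (by rw [hzb, hb])
      have hz' : z = a' := cancel e (by rw [hzb]) (h1.symm.trans heq)
      subst hz'
      rw [← Category.assoc, ← Category.assoc, hC (a ≫ upProj f h) (z ≫ upProj f h) inferInstance inferInstance
        (hz ▸ hr)]
  haveI := hFi
  have key : ∀ (G : (⟨X, L⟩ : Pr.{u}) ⟶ (⟨S, N⟩ : Pr.{u})), G.base = f → IsIso (fib G) →
      PicF.cl L = PicF.cl ((Scheme.Modules.pullback f).obj N) := by
    rintro ⟨b, φ⟩ rfl hφ
    let φ' : L ⟶ (Scheme.Modules.pullback b).obj N := φ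
    haveI : IsIso φ' := hφ
    exact (PicGrp.cl_eq_cl_iff _ _).2 ⟨asIso φ'⟩
  exact key F hFb hFi

end Groth.Agent.LineDesc
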