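import Groth.Agent.LineDesc.PicDescent
import Groth.Agent.H23.PicMul
import Groth.Prelude.Def_AbDual

/-!
# fppf descent of rigidified invertible modules
-/

set_option autoImplicit false
set_option backward.isDefEq.respectTransparency false
set_option backward.isDefEq.respectTransparency.types false
set_option linter.style.haveILetI false
set_option linter.unusedSectionVars false
set_option maxHeartbeats 1000000

universe u

open CategoryTheory CategoryTheory.Limits AlgebraicGeometry TopologicalSpace Pseudofunctor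

noncomputable section

namespace Groth.Agent.LineDesc.Rig

open ThetaLib
open scoped Groth.Agent.H23.PicMul

variable {X S : Scheme.{u}} {f : X ⟶ S} {σ : S ⟶ X} {hσ : σ ≫ f = 𝟙 S}

theorem XTmap_fst {T T' : Over S} (g : T' ⟶ T) :
    PicF.XTmap f g ≫ pullback.fst f T.hom = pullback.fst f T'.hom := by
  simp [PicF.XTmap]

theorem XTmap_snd {T T' : Over S} (g : T' ⟶ T) :
    PicF.XTmap f g ≫ pullback.snd f T.hom = pullback.snd f T'.hom ≫ g.left := by
  simp [PicF.XTmap]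

theorem secT_snd (T : Over S) : PicF.secT f σ hσ T ≫ pullback.snd f T.hom = 𝟙 T.left := pullback.lift_snd _ _ _

theorem secT_XTmap {T T' : Over S} (g : T' ⟶ T) :
    PicF.secT f σ hσ T' ≫ PicF.XTmap f g = g.left ≫ PicF.secT f σ hσ T := by
  refine pullback.hom_ext ?_ ?_
  · rw [Category.assoc, XTmap_fst, Category.assoc]
    simp only [PicF.secT, pullback.lift_fst]
    rw [← Category.assoc, Over.w g]
  · rw [Category.assoc, XTmap_snd, ← Category.assoc, secT_snd, Category.id_comp, Category.assoc, secT_snd,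
      Category.comp_id]

theorem XTmap_comp {T T' T'' : Over S} (g : T'' ⟶ T') (g' : T' ⟶ T) :
    PicF.XTmap f g ≫ PicF.XTmap f g' = PicF.XTmap f (g ≫ g') := by
  refine pullback.hom_ext ?_ ?_
  · rw [Category.assoc, XTmap_fst, XTmap_fst, XTmap_fst]
  · rw [Category.assoc, XTmap_snd, ← Category.assoc, XTmap_snd, Category.assoc, XTmap_snd]
    rfl

theorem XTmap_id (T : Over S) : PicF.XTmap f (𝟙 T) = 𝟙 _ := by
  refine pullback.hom_ext ?_ ?_
  · rw [XTmap_fst, Category.id_comp]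
  · rw [XTmap_snd, Category.id_comp, Over.id_left, Category.comp_id]

variable {T : Over S} {U : Scheme.{u}} (u : U ⟶ T.left)

/-- The covering object. -/
abbrev U1 : Over S := AbDual.ovr T u

/-- The covering map on `X`. -/
abbrev cov : PicF.XT f (U1 u) ⟶ PicF.XT f T := PicF.XTmap f (AbDual.ovrHom T u)

/-- The double covering object. -/
abbrev U2 : Over S := AbDual.ovr (U1 u) (pullback.fst u u)

/-- Its first projection. -/
abbrev p1 : U2 u ⟶ U1 u := AbDual.ovrHom (U1 u) (pullback.fst u u)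

/-- Its second projection. -/
abbrev p2 : U2 u ⟶ U1 u := Over.homMk (pullback.snd u u) (pullback.condition_assoc T.hom).symm

/-- The triple covering object. -/
abbrev U3 : Over S := Over.mk (pullback.fst (pullback.snd u u) (pullback.fst u u) ≫ (U2 u).hom)

/-- Projection `12`. -/
abbrev g12 : U3 u ⟶ U2 u := Over.homMk (pullback.fst (pullback.snd u u) (pullback.fst u u)) rfl

/-- Projection `23`. -/
abbrev g23 : U3 u ⟶ U2 u := Over.homMk (pullback.snd (pullback.snd u u) (pullback.fst u u)) (by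
  show pullback.snd (pullback.snd u u) (pullback.fst u u) ≫ pullback.fst u u ≫ u ≫ T.hom =
    pullback.fst (pullback.snd u u) (pullback.fst u u) ≫ pullback.fst u u ≫ u ≫ T.hom
  rw [← pullback.condition_assoc (f := pullback.snd u u) (g := pullback.fst u u),
    ← pullback.condition_assoc (f := u) (g := u)])

/-- Projection `13`. -/
abbrev g13 : U3 u ⟶ U2 u := Over.homMk
  (pullback.lift (pullback.fst (pullback.snd u u) (pullback.fst u u) ≫ pullback.fst u u)
    (pullback.snd (pullback.snd u u) (pullback.fst u u) ≫ pullback.snd u u) (by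
      rw [Category.assoc, Category.assoc, ← pullback.condition (f := u) (g := u), ← Category.assoc _ (pullback.fst u u) u,
        ← Category.assoc _ (pullback.fst u u) u, ← pullback.condition, Category.assoc, Category.assoc,
        ← pullback.condition (f := u) (g := u)])) (by
  show pullback.lift _ _ _ ≫ pullback.fst u u ≫ u ≫ T.hom = _
  rw [pullback.lift_fst_assoc, Category.assoc]
  rfl)

theorem g13_p1 : g13 u ≫ p1 u = g12 u ≫ p1 u := Over.OverMorphism.ext (pullback.lift_fst _ _ _)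

theorem g13_p2 : g13 u ≫ p2 u = g23 u ≫ p2 u := Over.OverMorphism.ext (pullback.lift_snd _ _ _)

theorem g23_p1 : g23 u ≫ p1 u = g12 u ≫ p2 u := Over.OverMorphism.ext pullback.condition.symm

theorem cov_p : PicF.XTmap f (p1 u) ≫ cov u = PicF.XTmap f (p2 u) ≫ cov u := by
  rw [cov, XTmap_comp, XTmap_comp]
  congr 1
  exact Over.OverMorphism.ext pullback.condition

theorem exists_pt {Z : Scheme.{u}} (a b : Z ⟶ PicF.XT f (U1 u)) (h : a ≫ cov u = b ≫ cov u) :
    ∃ p : Z ⟶ PicF.XT f (U2 u), p ≫ PicF.XTmap f (p1 u) = a ∧ p ≫ PicF.XTmap f (p2 u) = b := by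
  have h1 := congrArg (fun m => m ≫ pullback.fst f T.hom) h
  have h2 := congrArg (fun m => m ≫ pullback.snd f T.hom) h
  simp only [Category.assoc, cov, XTmap_fst, XTmap_snd] at h1 h2
  change a ≫ pullback.snd f (U1 u).hom ≫ u = b ≫ pullback.snd f (U1 u).hom ≫ u at h2
  refine ⟨pullback.lift (a ≫ pullback.fst f (U1 u).hom)
    (pullback.lift (a ≫ pullback.snd f (U1 u).hom) (b ≫ pullback.snd f (U1 u).hom) (by simpa using h2)) (by
      show _ = pullback.lift _ _ _ ≫ pullback.fst u u ≫ (U1 u).hom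
      rw [pullback.lift_fst_assoc, Category.assoc, Category.assoc, pullback.condition]), ?_, ?_⟩
  · refine pullback.hom_ext ?_ ?_
    · rw [Category.assoc, XTmap_fst, pullback.lift_fst]
    · rw [Category.assoc, XTmap_snd, pullback.lift_snd_assoc]
      exact pullback.lift_fst _ _ _
  · refine pullback.hom_ext ?_ ?_
    · rw [Category.assoc, XTmap_fst, pullback.lift_fst]
      exact h1
    · rw [Category.assoc, XTmap_snd, pullback.lift_snd_assoc]
      exact pullback.lift_snd _ _ _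

theorem pt_ext {Z : Scheme.{u}} {p p' : Z ⟶ PicF.XT f (U2 u)}
    (h1 : p ≫ PicF.XTmap f (p1 u) = p' ≫ PicF.XTmap f (p1 u))
    (h2 : p ≫ PicF.XTmap f (p2 u) = p' ≫ PicF.XTmap f (p2 u)) : p = p' := by
  have e0 := congrArg (fun m => m ≫ pullback.fst f (U1 u).hom) h1
  have e1 := congrArg (fun m => m ≫ pullback.snd f (U1 u).hom) h1
  have e2 := congrArg (fun m => m ≫ pullback.snd f (U1 u).hom) h2
  simp only [Category.assoc, XTmap_fst, XTmap_snd] at e0 e1 e2
  refine pullback.hom_ext e0 (pullback.hom_ext ?_ ?_)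
  · rw [Category.assoc, Category.assoc]; exact e1
  · rw [Category.assoc, Category.assoc]; exact e2

theorem exists_pt3 {Z : Scheme.{u}} (p q : Z ⟶ PicF.XT f (U2 u))
    (h : p ≫ PicF.XTmap f (p2 u) = q ≫ PicF.XTmap f (p1 u)) :
    ∃ m : Z ⟶ PicF.XT f (U3 u), m ≫ PicF.XTmap f (g12 u) = p ∧ m ≫ PicF.XTmap f (g23 u) = q := by
  have h1 := congrArg (fun m => m ≫ pullback.fst f (U1 u).hom) h
  have h2 := congrArg (fun m => m ≫ pullback.snd f (U1 u).hom) h
  simp only [Category.assoc, XTmap_fst, XTmap_snd] at h1 h2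
  refine ⟨pullback.lift (p ≫ pullback.fst f (U2 u).hom)
    (pullback.lift (p ≫ pullback.snd f (U2 u).hom) (q ≫ pullback.snd f (U2 u).hom) (by simpa using h2)) (by
      show _ = pullback.lift _ _ _ ≫ pullback.fst (pullback.snd u u) (pullback.fst u u) ≫ (U2 u).hom
      rw [pullback.lift_fst_assoc, Category.assoc, Category.assoc, pullback.condition]), ?_, ?_⟩
  · refine pullback.hom_ext ?_ ?_
    · rw [Category.assoc, XTmap_fst, pullback.lift_fst]
    · rw [Category.assoc, XTmap_snd, pullback.lift_snd_assoc]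
      exact pullback.lift_fst _ _ _
  · refine pullback.hom_ext ?_ ?_
    · rw [Category.assoc, XTmap_fst, pullback.lift_fst]
      exact h1
    · rw [Category.assoc, XTmap_snd, pullback.lift_snd_assoc]
      exact pullback.lift_snd _ _ _

/-- The trivial pair on the covering. -/
abbrev PU : Pr.{u} := Ptriv u

variable {u} {L' : (PicF.XT f (U1 u)).Modules}
  (r : PU u ⟶ (⟨PicF.XT f (U1 u), L'⟩ : Pr.{u})) [IsIso (fib r)] (hr : r.base = PicF.secT f σ hσ (U1 u))

variable (σ hσ) in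
/-- Two morphisms with equal restrictions to the section. -/
def Norm {Z : Over S} {MQ : (PicF.XT f Z).Modules}
    (F F' : (⟨PicF.XT f Z, MQ⟩ : Pr.{u}) ⟶ (⟨PicF.XT f (U1 u), L'⟩ : Pr.{u})) : Prop :=
  ∀ (V : Pr.{u}) (s : V ⟶ (⟨PicF.XT f Z, MQ⟩ : Pr.{u})), IsIso (fib s) →
    (∃ v : V.base ⟶ Z.left, s.base = v ≫ PicF.secT f σ hσ Z) → ∀ c c' : V ⟶ PU u, IsIso (fib c) → IsIso (fib c') →
      c ≫ r = s ≫ F → c' ≫ r = s ≫ F' → c ≫ trivProj u = c' ≫ trivProj u

variable {r} {Z : Over S} {MQ : (PicF.XT f Z).Modules}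
  {F F' F'' : (⟨PicF.XT f Z, MQ⟩ : Pr.{u}) ⟶ (⟨PicF.XT f (U1 u), L'⟩ : Pr.{u})}

theorem Norm.symm (h : Norm σ hσ r F F') : Norm σ hσ r F' F :=
  fun V s hs hv c c' hc hc' h1 h2 => (h V s hs hv c' c hc' hc h2 h1).symm

include hr in
theorem exists_secLift {V : Pr.{u}} (s : V ⟶ (⟨PicF.XT f Z, MQ⟩ : Pr.{u})) [IsIso (fib s)] [IsIso (fib F)]
    (v : V.base ⟶ Z.left) (hv : s.base = v ≫ PicF.secT f σ hσ Z) (q : Z ⟶ U1 u) (hq : F.base = PicF.XTmap f q) :
    ∃ c : V ⟶ PU u, c.base = v ≫ q.left ∧ c ≫ r = s ≫ F ∧ IsIso (fib c) := by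
  haveI := isIso_fib_comp s F
  obtain ⟨c, h1, h2, h3⟩ := exists_lift r (s ≫ F) (v ≫ q.left) (by
    show _ = s.base ≫ F.base
    rw [hr, hv, hq, Category.assoc, Category.assoc, secT_XTmap])
  exact ⟨c, h1, h2, h3 inferInstance⟩

include hr in
theorem Norm.trans [IsIso (fib F')] (q' : Z ⟶ U1 u) (hq' : F'.base = PicF.XTmap f q') (h : Norm σ hσ r F F')
    (h' : Norm σ hσ r F' F'') : Norm σ hσ r F F'' := by
  intro V s hs ⟨v, hv⟩ c c'' hc hc'' h1 h2
  haveI := hs
  obtain ⟨c', -, hc1, hc2⟩ := exists_secLift (F := F') hr s v hv q' hq'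
  exact (h V s hs ⟨v, hv⟩ c c' hc hc2 h1 hc1).trans (h' V s hs ⟨v, hv⟩ c' c'' hc2 hc'' hc1 h2)

theorem Norm.comp (h : Norm σ hσ r F F') {Z' : Over S} {MQ' : (PicF.XT f Z').Modules}
    (K : (⟨PicF.XT f Z', MQ'⟩ : Pr.{u}) ⟶ (⟨PicF.XT f Z, MQ⟩ : Pr.{u})) [IsIso (fib K)] (g : Z' ⟶ Z)
    (hK : K.base = PicF.XTmap f g) : Norm σ hσ r (K ≫ F) (K ≫ F') := by
  intro V s hs ⟨v, hv⟩ c c' hc hc' h1 h2
  haveI := hs
  refine h V (s ≫ K) (isIso_fib_comp _ _) ⟨v ≫ g.left, ?_⟩ c c' hc hc'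
    (h1.trans (Category.assoc _ _ _).symm) (h2.trans (Category.assoc _ _ _).symm)
  show s.base ≫ K.base = _
  rw [hv, hK, Category.assoc, Category.assoc, secT_XTmap]

variable (ha : ∀ (Z : Scheme.{u}) (z : Z ⟶ S), Function.Bijective (pullback.snd f z).appTop)

include hr ha in
theorem Norm.eq (hMQ : PicF.IsInvertible MQ) [IsIso (fib F)] [IsIso (fib F')] (q : Z ⟶ U1 u)
    (hq : F.base = PicF.XTmap f q) (hq' : F'.base = PicF.XTmap f q) (h : Norm σ hσ r F F') : F = F' := by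
  obtain ⟨a₀, ha₀⟩ := exists_eq_smulH hMQ F' F (hq'.trans hq.symm)
  obtain ⟨a, rfl⟩ := (ha _ Z.hom).2 a₀
  let V : Pr.{u} := ⟨Z.left, (Scheme.Modules.pullback (PicF.secT f σ hσ Z)).obj MQ⟩
  let s : V ⟶ (⟨PicF.XT f Z, MQ⟩ : Pr.{u}) := mkH (PicF.secT f σ hσ Z) (𝟙 _)
  haveI : IsIso (fib s) := inferInstanceAs (IsIso (𝟙 _))
  obtain ⟨c, hc1, hc2, hc3⟩ := exists_secLift (F := F) hr s (𝟙 _) (Category.id_comp _).symm q hq
  haveI := hc3
  haveI := isIso_fib_comp s F
  have hVi : PicF.IsInvertible (mdl V) := PicClLib.isInvertible_pullback _ hMQ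
  have hsa : s.base.appTop ((pullback.snd f Z.hom).appTop a) = a := by
    show (PicF.secT f σ hσ Z).appTop ((pullback.snd f Z.hom).appTop a) = a
    rw [← CategoryTheory.comp_apply, ← Scheme.Hom.comp_appTop, secT_snd, Scheme.Hom.id_appTop]
    rfl
  have e : smulH (P := V) a c ≫ r = s ≫ F' := by
    rw [ha₀, comp_smulH hMQ, hsa, smulH_comp, hc2]
  have hau : IsIso (fib (smulH (P := V) a c)) := by
    haveI := isIso_fib_comp s F'
    haveI : IsIso (fib (smulH (P := V) a (s ≫ F))) := by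
      rw [← hc2, ← smulH_comp, e]; infer_instance
    exact isIso_fib_smulH c (isUnit_of_isIso_fib hVi (s ≫ F))
  have h1 := h V s inferInstance ⟨𝟙 _, (Category.id_comp _).symm⟩ c (smulH (P := V) a c) hc3 hau hc2 e
  rw [smulH_comp] at h1
  haveI := isIso_fib_comp c (trivProj u)
  have h2 : a = 1 := smulH_injective hVi (c ≫ trivProj u) (h1.symm.trans (smulH_one _).symm)
  rw [ha₀, h2, map_one, smulH_one]

/-- The pair over the double covering. -/
abbrev Q2 (L' : (PicF.XT f (U1 u)).Modules) : Pr.{u} :=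
  ⟨PicF.XT f (U2 u), (Scheme.Modules.pullback (PicF.XTmap f (p1 u))).obj L'⟩

/-- Its first projection. -/
abbrev projA (L' : (PicF.XT f (U1 u)).Modules) : Q2 L' ⟶ (⟨PicF.XT f (U1 u), L'⟩ : Pr.{u}) :=
  mkH (PicF.XTmap f (p1 u)) (𝟙 _)

instance (L' : (PicF.XT f (U1 u)).Modules) : IsIso (fib (projA L')) := inferInstanceAs (IsIso (𝟙 _))

include hr ha in
theorem exists_normPair (hL' : PicF.IsInvertible L')
    (hglue : PicF.pullCl (PicF.XTmap f (p1 u)) (PicF.cl L') = PicF.pullCl (PicF.XTmap f (p2 u)) (PicF.cl L')) :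
    ∃ A' : Q2 L' ⟶ (⟨PicF.XT f (U1 u), L'⟩ : Pr.{u}), A'.base = PicF.XTmap f (p2 u) ∧ IsIso (fib A') ∧
      Norm σ hσ r (projA L') A' := by
  obtain ⟨i⟩ := (PicGrp.cl_eq_cl_iff _ _).1 hglue
  let A₀ : Q2 L' ⟶ (⟨PicF.XT f (U1 u), L'⟩ : Pr.{u}) := mkH (PicF.XTmap f (p2 u)) i.hom
  haveI : IsIso (fib A₀) := inferInstanceAs (IsIso i.hom)
  let V : Pr.{u} := ⟨(U2 u).left, (Scheme.Modules.pullback (PicF.secT f σ hσ (U2 u))).obj (mdl (Q2 L'))⟩
  let s : V ⟶ Q2 L' := mkH (PicF.secT f σ hσ (U2 u)) (𝟙 _)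
  haveI : IsIso (fib s) := inferInstanceAs (IsIso (𝟙 _))
  have hQ : PicF.IsInvertible (mdl (Q2 L')) := PicClLib.isInvertible_pullback _ hL'
  have hV : PicF.IsInvertible (mdl V) := PicClLib.isInvertible_pullback _ hQ
  obtain ⟨c, hc1, hc2, hc3⟩ := exists_secLift (F := projA L') hr s (𝟙 _) (Category.id_comp _).symm (p1 u) rfl
  obtain ⟨c₀, hd1, hd2, hd3⟩ := exists_secLift (F := A₀) hr s (𝟙 _) (Category.id_comp _).symm (p2 u) rfl
  haveI := hc3
  haveI := hd3
  haveI := isIso_fib_comp c (trivProj u)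
  haveI := isIso_fib_comp c₀ (trivProj u)
  obtain ⟨a, hca⟩ := exists_eq_smulH hV (c ≫ trivProj u) (c₀ ≫ trivProj u) (by
    show c.base ≫ u = c₀.base ≫ u
    rw [hc1, hd1, Category.assoc, Category.assoc]
    exact congrArg (𝟙 _ ≫ ·) pullback.condition)
  haveI : IsIso (fib (smulH (P := V) a (c₀ ≫ trivProj u))) := hca ▸ inferInstance
  have hau : IsUnit a := isUnit_of_isIso_fib hV (c₀ ≫ trivProj u)
  let a₁ := (pullback.snd f (U2 u).hom).appTop a
  haveI : IsIso (fib (smulH (P := Q2 L') a₁ A₀)) := isIso_fib_smulH A₀ (hau.map (pullback.snd f (U2 u).hom).appTop.hom)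
  refine ⟨smulH a₁ A₀, rfl, inferInstance, fun W t ht ⟨v, hv⟩ b b' hb hb' hb1 hb2 => ?_⟩
  haveI := ht
  haveI := hb
  haveI := hb'
  obtain ⟨k, hk1, hk2, hk3⟩ := exists_lift s t v hv.symm
  haveI := hk3 inferInstance
  have hmono : ∀ (y y' : W.base ⟶ U), y ≫ PicF.secT f σ hσ (U1 u) = y' ≫ PicF.secT f σ hσ (U1 u) → y = y' :=
    fun y y' h => by
      have h' := congrArg (fun m => m ≫ pullback.snd f (U1 u).hom) h
      simp only [Category.assoc, secT_snd] at h'
      exact h'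
  have hsa : s.base.appTop a₁ = a := by
    show (PicF.secT f σ hσ (U2 u)).appTop ((pullback.snd f (U2 u).hom).appTop a) = a
    rw [← CategoryTheory.comp_apply, ← Scheme.Hom.comp_appTop, secT_snd, Scheme.Hom.id_appTop]
    rfl
  have e₀ : smulH (P := V) a c₀ ≫ r = s ≫ smulH a₁ A₀ := by
    rw [comp_smulH hQ, hsa, smulH_comp, hd2]
  have eb : b = k ≫ c := by
    refine cancel r (hmono _ _ ?_) (by rw [hb1, Category.assoc, hc2, reassoc_of% hk2])
    rw [← hr]
    show (b ≫ r).base = ((k ≫ c) ≫ r).base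
    rw [hb1, Category.assoc, hc2, reassoc_of% hk2]
  have eb' : b' = k ≫ smulH (P := V) a c₀ := by
    refine cancel r (hmono _ _ ?_) (by rw [hb2, Category.assoc, e₀, reassoc_of% hk2])
    rw [← hr]
    show (b' ≫ r).base = ((k ≫ smulH (P := V) a c₀) ≫ r).base
    rw [hb2, Category.assoc, e₀, reassoc_of% hk2]
  rw [eb, eb', Category.assoc, Category.assoc, smulH_comp, hca]

variable {A' : Q2 L' ⟶ (⟨PicF.XT f (U1 u), L'⟩ : Pr.{u})}

/-- The descent datum of a normalised pair. -/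
def datum (hL' : PicF.IsInvertible L') (hA'b : A'.base = PicF.XTmap f (p2 u)) [IsIso (fib A')]
    (hA' : Norm σ hσ r (projA L') A') : LDatum (⟨PicF.XT f (U1 u), L'⟩ : Pr.{u}) (cov u) where
  Rel {W} a a' := ∃ κ : W ⟶ Q2 L', IsIso (fib κ) ∧ κ ≫ projA L' = a ∧ κ ≫ A' = a'
  base {W a a'} h := by
    obtain ⟨κ, -, rfl, rfl⟩ := h
    show (κ.base ≫ PicF.XTmap f (p1 u)) ≫ cov u = (κ.base ≫ A'.base) ≫ cov u
    rw [hA'b, Category.assoc, Category.assoc, cov_p]
  refl {W} a hai := by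
    haveI := hai
    let dg : U1 u ⟶ U2 u := Over.homMk (pullback.lift (𝟙 U) (𝟙 U) rfl) (by
      show pullback.lift (𝟙 U) (𝟙 U) rfl ≫ pullback.fst u u ≫ u ≫ T.hom = u ≫ T.hom
      rw [pullback.lift_fst_assoc, Category.id_comp])
    have hd1 : dg ≫ p1 u = 𝟙 _ := Over.OverMorphism.ext (pullback.lift_fst _ _ _)
    have hd2 : dg ≫ p2 u = 𝟙 _ := Over.OverMorphism.ext (pullback.lift_snd _ _ _)
    haveI := isIso_fib_id (⟨PicF.XT f (U1 u), L'⟩ : Pr.{u})
    obtain ⟨D, hD1, hD2, hD3⟩ := exists_lift (projA L') (𝟙 (⟨PicF.XT f (U1 u), L'⟩ : Pr.{u})) (PicF.XTmap f dg) (by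
      show _ ≫ PicF.XTmap f (p1 u) = 𝟙 _
      rw [XTmap_comp, hd1, XTmap_id])
    haveI := hD3 inferInstance
    haveI := isIso_fib_comp D A'
    haveI := isIso_fib_comp D (projA L')
    have h := Norm.eq hr ha hL' (𝟙 (U1 u)) (by
        show D.base ≫ PicF.XTmap f (p1 u) = _
        rw [hD1, XTmap_comp, hd1])
      (by show D.base ≫ A'.base = _; rw [hD1, hA'b, XTmap_comp, hd2]) (hA'.comp D dg hD1)
    refine ⟨a ≫ D, isIso_fib_comp _ _, by rw [Category.assoc, hD2, Category.comp_id], ?_⟩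
    rw [Category.assoc, ← h, hD2, Category.comp_id]
  symm {W a a'} _ _ h := by
    obtain ⟨κ, hκ, rfl, rfl⟩ := h
    haveI := hκ
    let sw : U2 u ⟶ U2 u := Over.homMk (pullback.lift (pullback.snd u u) (pullback.fst u u) pullback.condition.symm) (by
      show pullback.lift (pullback.snd u u) (pullback.fst u u) _ ≫ pullback.fst u u ≫ u ≫ T.hom = _
      rw [pullback.lift_fst_assoc, ← pullback.condition_assoc]
      rfl)
    have hs1 : sw ≫ p1 u = p2 u := Over.OverMorphism.ext (pullback.lift_fst _ _ _)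
    have hs2 : sw ≫ p2 u = p1 u := Over.OverMorphism.ext (pullback.lift_snd _ _ _)
    obtain ⟨E, hE1, hE2, hE3⟩ := exists_lift (projA L') A' (PicF.XTmap f sw) (by
      show _ ≫ PicF.XTmap f (p1 u) = A'.base
      rw [XTmap_comp, hs1, hA'b])
    haveI := hE3 inferInstance
    haveI := isIso_fib_comp E A'
    have h1 := hA'.comp E sw hE1
    rw [hE2] at h1
    have h := Norm.eq hr ha (PicClLib.isInvertible_pullback _ hL') (p1 u) rfl
      (by show E.base ≫ A'.base = _; rw [hE1, hA'b, XTmap_comp, hs2]) (Norm.trans hr (p2 u) hA'b hA' h1)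
    exact ⟨κ ≫ E, isIso_fib_comp _ _, by rw [Category.assoc, hE2], by rw [Category.assoc, ← h]⟩
  trans {W a a' a''} _ _ _ h h' := by
    obtain ⟨κ, hκ, rfl, rfl⟩ := h
    obtain ⟨κ', hκ', h1, rfl⟩ := h'
    haveI := hκ
    haveI := hκ'
    let Q3 : Pr.{u} := ⟨PicF.XT f (U3 u), (Scheme.Modules.pullback (PicF.XTmap f (g12 u))).obj (mdl (Q2 L'))⟩
    let K12 : Q3 ⟶ Q2 L' := mkH (PicF.XTmap f (g12 u)) (𝟙 _)
    haveI : IsIso (fib K12) := inferInstanceAs (IsIso (𝟙 _))
    haveI := isIso_fib_comp K12 (projA L')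
    haveI := isIso_fib_comp K12 A'
    obtain ⟨K13, hK13b, hK13, hK13i⟩ := exists_lift (projA L') (K12 ≫ projA L') (PicF.XTmap f (g13 u)) (by
      show _ ≫ PicF.XTmap f (p1 u) = PicF.XTmap f (g12 u) ≫ PicF.XTmap f (p1 u)
      rw [XTmap_comp, XTmap_comp, g13_p1])
    obtain ⟨K23, hK23b, hK23, hK23i⟩ := exists_lift (projA L') (K12 ≫ A') (PicF.XTmap f (g23 u)) (by
      show _ ≫ PicF.XTmap f (p1 u) = PicF.XTmap f (g12 u) ≫ A'.base
      rw [hA'b, XTmap_comp, XTmap_comp, g23_p1])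
    haveI := hK13i inferInstance
    haveI := hK23i inferInstance
    haveI := isIso_fib_comp K13 A'
    haveI := isIso_fib_comp K23 A'
    have hn12 := hA'.comp K12 (g12 u) rfl
    have hn23 := hA'.comp K23 (g23 u) hK23b
    have hn13 := hA'.comp K13 (g13 u) hK13b
    rw [hK23] at hn23
    rw [hK13] at hn13
    have hall := Norm.trans hr (g12 u ≫ p2 u) (by
      show PicF.XTmap f (g12 u) ≫ A'.base = _
      rw [hA'b, XTmap_comp]) hn12 hn23
    have hkey := Norm.trans (F := K13 ≫ A') hr (g12 u ≫ p1 u) (by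
      show PicF.XTmap f (g12 u) ≫ PicF.XTmap f (p1 u) = _
      rw [XTmap_comp]) hn13.symm hall
    have hK := Norm.eq hr ha (PicClLib.isInvertible_pullback _ (PicClLib.isInvertible_pullback _ hL')) (g13 u ≫ p2 u)
      (by show K13.base ≫ A'.base = _; rw [hK13b, hA'b, XTmap_comp])
      (by show K23.base ≫ A'.base = _; rw [hK23b, hA'b, XTmap_comp, g13_p2]) hkey
    have hb : κ.base ≫ PicF.XTmap f (p2 u) = κ'.base ≫ PicF.XTmap f (p1 u) := by
      rw [← hA'b]
      exact (congrArg CoGrothendieck.Hom.base h1).symm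
    obtain ⟨m, hm1, hm2⟩ := exists_pt3 u κ.base κ'.base hb
    obtain ⟨k3, hk3b, hk3, hk3i⟩ := exists_lift K12 κ m hm1
    haveI := hk3i inferInstance
    have hk23 : k3 ≫ K23 = κ' := by
      refine cancel (projA L') ?_ ?_
      · show k3.base ≫ K23.base = κ'.base
        rw [hk3b, hK23b, hm2]
      · rw [Category.assoc, hK23, reassoc_of% hk3, h1]
    exact ⟨k3 ≫ K13, isIso_fib_comp _ _, by rw [Category.assoc, hK13, reassoc_of% hk3],
      by rw [Category.assoc, hK, ← Category.assoc, hk23]⟩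
  natural {W' W} c {a a'} hc _ _ h := by
    obtain ⟨κ, hκ, rfl, rfl⟩ := h
    haveI := hc
    haveI := hκ
    exact ⟨c ≫ κ, isIso_fib_comp _ _, Category.assoc _ _ _, Category.assoc _ _ _⟩
  exists_rel {W} a b hai h := by
    haveI := hai
    obtain ⟨p, hp1, hp2⟩ := exists_pt u a.base b h
    obtain ⟨κ, hκ1, hκ2, hκ3⟩ := exists_lift (projA L') a p hp1
    haveI := hκ3 inferInstance
    exact ⟨κ ≫ A', by show κ.base ≫ A'.base = b; rw [hκ1, hA'b, hp2], isIso_fib_comp _ _, κ, inferInstance, hκ2, rfl⟩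
  unique {W a a' a''} _ _ _ h h' hb := by
    obtain ⟨κ, hκ, rfl, rfl⟩ := h
    obtain ⟨κ', hκ', h1, rfl⟩ := h'
    rw [cancel (projA L') (pt_ext u (congrArg CoGrothendieck.Hom.base h1).symm (by rw [← hA'b]; exact hb)) h1.symm]

end Groth.Agent.LineDesc.Rig
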